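import Mathlib
import Cfsg.Agent.Lib.Perm.Zassenhaus
import Cfsg.Agent.Lib.CharInt.FrobeniusKernel
import Cfsg.Agent.Lib.Frobenius.Basic
import Cfsg.Agent.Lib.Frobenius.FixedPointFree
import Cfsg.Agent.Lib.Frobenius.Module
import Cfsg.Agent.Lib.PGroup.UniqueOrderP

/-!
# Zassenhaus groups with two-point stabilisers of odd order

Counting of fixed points, and: in a perfect such group the two-point stabiliser is cyclic and
inverted by every involution interchanging the two points.
-/

set_option autoImplicit false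
set_option linter.style.haveILetI false
set_option linter.unusedSectionVars false

namespace Cfsg.Agent.ZassenhausOdd

open MulAction Finset Pointwise
open scoped commutatorElement

variable {G Ω : Type*} [Group G] [Finite G] [MulAction G Ω] [Fintype Ω]

/-- The two-point stabiliser. -/
abbrev twoStab (G : Type*) {Ω : Type*} [Group G] [MulAction G Ω] (a b : Ω) : Subgroup G :=
  stabilizer G a ⊓ stabilizer G b

theorem mem_twoStab {a b : Ω} {g : G} : g ∈ twoStab G a b ↔ g • a = a ∧ g • b = b := Iff.rfl

theorem conj_mem_twoStab {a b c d : Ω} {k x : G} (ha : k • a = c) (hb : k • b = d)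
    (hx : x ∈ twoStab G a b) : k * x * k⁻¹ ∈ twoStab G c d := by
  rw [mem_twoStab] at hx ⊢
  subst ha hb
  simp [mul_smul, hx.1, hx.2]

variable (hZ : Cfsg.IsZassenhausGroup G Ω) {a b : Ω} (hab : a ≠ b)
include hZ hab

theorem card_twoStab_eq {c d : Ω} (hcd : c ≠ d) :
    Nat.card (twoStab G c d) = Nat.card (twoStab G a b) := by
  obtain ⟨k, hka, hkb⟩ := Perm.Zass.two_trans hZ hab hcd
  refine (Nat.card_congr (Equiv.subtypeEquiv (MulAut.conj k).toEquiv fun x => ⟨fun h => ?_,
    fun h => ?_⟩)).symm
  · exact conj_mem_twoStab hka hkb h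
  · have := conj_mem_twoStab (k := k⁻¹) (inv_smul_eq_iff.2 hka.symm) (inv_smul_eq_iff.2 hkb.symm) h
    simpa [mul_assoc] using this

theorem twoStab_nontrivial : 1 < Nat.card (twoStab G a b) := by
  obtain ⟨g, hg, x, y, hxy, hgx, hgy⟩ := hZ.2.2.2.1
  rw [card_twoStab_eq hZ hxy (c := a) (d := b) hab]
  haveI : Nontrivial (twoStab G x y) :=
    ⟨⟨⟨g, hgx, hgy⟩, 1, fun h => hg (congrArg Subtype.val h)⟩⟩
  exact Finite.one_lt_card

theorem card_stabilizer :
    Nat.card (stabilizer G a) = (Fintype.card Ω - 1) * Nat.card (twoStab G a b) := by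
  classical
  have hidx : ((stabilizer G b).subgroupOf (stabilizer G a)).index = Fintype.card Ω - 1 := by
    have horb : orbit (stabilizer G a) b = {c | c ≠ a} := by
      ext c
      constructor
      · rintro ⟨k, rfl⟩ h
        exact hab (smul_left_cancel (k : G) ((mem_stabilizer_iff.1 k.2).trans h.symm))
      · intro hc
        obtain ⟨k, hka, hkb⟩ := Perm.Zass.two_trans hZ hab (Ne.symm hc)
        exact ⟨⟨k, hka⟩, hkb⟩
    have : (stabilizer G b).subgroupOf (stabilizer G a) = stabilizer (stabilizer G a) b := by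
      ext k; simp [Subgroup.mem_subgroupOf, mem_stabilizer_iff, Subgroup.smul_def]
    rw [this, index_stabilizer, horb, Set.ncard_eq_toFinset_card']
    simp [filter_ne']
  have h3 : Nat.card ((stabilizer G b).subgroupOf (stabilizer G a)) = Nat.card (twoStab G a b) := by
    rw [← Subgroup.inf_subgroupOf_right,
      Nat.card_congr (Subgroup.subgroupOfEquivOfLe inf_le_right).toEquiv, inf_comm]
  have h2 := ((stabilizer G b).subgroupOf (stabilizer G a)).card_mul_index
  rw [hidx, h3] at h2
  rw [← h2, mul_comm]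

theorem card_group :
    Nat.card G = Fintype.card Ω * ((Fintype.card Ω - 1) * Nat.card (twoStab G a b)) := by
  haveI := hZ.2.1
  haveI : IsPretransitive G Ω := isPretransitive_of_is_two_pretransitive
  have h1 := (stabilizer G a).card_mul_index
  rw [index_stabilizer_of_transitive G a, Nat.card_eq_fintype_card (α := Ω),
    card_stabilizer hZ hab] at h1
  rw [← h1, mul_comm]

/-- Exactly `|Ω| - 2` elements fix `a` and no other point. -/
theorem card_fix_only [Fintype G] [DecidableEq G] [DecidableEq Ω] :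
    (univ.filter fun g : G => g • a = a ∧ ∀ c, g • c = c → c = a).card = Fintype.card Ω - 2 := by
  set S : Finset G := univ.filter fun g => g • a = a with hS
  set n := Fintype.card Ω
  set e := Nat.card (twoStab G a b)
  have hScard : S.card = (n - 1) * e := by
    rw [← card_stabilizer hZ hab, Nat.card_eq_fintype_card,
      Fintype.card_of_subtype S fun g => by simp [hS, mem_stabilizer_iff]]
  set f : G → ℕ := fun g => ((univ.erase a).filter fun c => g • c = c).card with hf
  have hsum : ∑ g ∈ S, f g = (n - 1) * e := by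
    simp only [hf, card_filter]
    rw [sum_comm]
    have : ∀ c ∈ univ.erase a, (∑ g ∈ S, if g • c = c then 1 else 0) = e := by
      intro c hc
      show _ = Nat.card (twoStab G a b)
      rw [← card_filter, ← card_twoStab_eq hZ hab (ne_of_mem_erase hc).symm,
        Nat.subtype_card _ fun g => ?_]
      rw [mem_filter]
      simp [hS]
    rw [sum_congr rfl this, sum_const, card_erase_of_mem (mem_univ _), card_univ, smul_eq_mul]
  have hpt : ∀ g ∈ S.erase 1, f g + (if ∀ c, g • c = c → c = a then 1 else 0) = 1 := by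
    intro g hg
    obtain ⟨hg1, hgS⟩ := mem_erase.1 hg
    have hga : g • a = a := (mem_filter.1 hgS).2
    have hle : f g ≤ 1 := by
      rw [hf, card_le_one]
      intro c hc d hd
      simp only [mem_filter, mem_erase, mem_univ, and_true] at hc hd
      by_contra hcd
      exact hg1 (Perm.Zass.eq_one_of_three hZ hcd hd.1 hc.1 hc.2 hd.2 hga)
    by_cases h : ∀ c, g • c = c → c = a
    · rw [if_pos h]
      have : f g = 0 := by
        rw [hf, card_eq_zero, filter_eq_empty_iff]
        exact fun c hc hgc => ne_of_mem_erase hc (h c hgc)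
      omega
    · rw [if_neg h]
      push Not at h
      obtain ⟨c, hc, hca⟩ := h
      have : 0 < f g := card_pos.2 ⟨c, by simp [hc, hca]⟩
      omega
  have h1 : (1 : G) ∈ S := by simp [hS]
  have hsum' := sum_congr rfl hpt
  rw [sum_add_distrib, ← card_filter, sum_const, smul_eq_mul, mul_one,
    card_erase_of_mem h1] at hsum'
  have hsplit := add_sum_erase S f h1
  rw [hsum] at hsplit
  have hf1 : f 1 = n - 1 := by simp [hf, n]
  have hset : (S.erase 1).filter (fun g => ∀ c, g • c = c → c = a) =
      univ.filter fun g : G => g • a = a ∧ ∀ c, g • c = c → c = a := by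
    ext g
    simp only [hS, mem_filter, mem_erase, mem_univ, true_and]
    refine ⟨fun h => ⟨h.1.2, h.2⟩, fun h => ⟨⟨?_, h.1⟩, h.2⟩⟩
    rintro rfl
    obtain ⟨c, hca, -⟩ := Perm.Zass.exists_third hZ a a
    exact hca (h.2 c (one_smul G c))
  rw [hset] at hsum'
  have h3 := Perm.Zass.three_le hZ
  have hpos : 0 < e := Nat.card_pos
  have : 1 ≤ (n - 1) * e := Nat.one_le_iff_ne_zero.2 (Nat.mul_ne_zero (by omega) hpos.ne')
  omega

/-- The setwise stabiliser of a pair. -/
theorem mem_normalizer_twoStab {g : G} (ha : g • a = a ∨ g • a = b)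
    (hb : g • b = a ∨ g • b = b) : g ∈ Subgroup.normalizer (twoStab G a b : Set G) := by
  have key : ∀ g : G, (g • a = a ∧ g • b = b) ∨ (g • a = b ∧ g • b = a) →
      ∀ x ∈ twoStab G a b, g * x * g⁻¹ ∈ twoStab G a b := by
    rintro g (⟨h1, h2⟩ | ⟨h1, h2⟩) x hx
    · exact conj_mem_twoStab h1 h2 hx
    · have := conj_mem_twoStab h1 h2 hx
      exact ⟨this.2, this.1⟩
  have hg : (g • a = a ∧ g • b = b) ∨ (g • a = b ∧ g • b = a) := by
    rcases ha with ha | ha <;> rcases hb with hb | hb
    · exact absurd (smul_left_cancel g (ha.trans hb.symm)) hab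
    · exact Or.inl ⟨ha, hb⟩
    · exact Or.inr ⟨ha, hb⟩
    · exact absurd (smul_left_cancel g (ha.trans hb.symm)) hab
  have hg' : (g⁻¹ • a = a ∧ g⁻¹ • b = b) ∨ (g⁻¹ • a = b ∧ g⁻¹ • b = a) := by
    rcases hg with ⟨h1, h2⟩ | ⟨h1, h2⟩
    · exact Or.inl ⟨inv_smul_eq_iff.2 h1.symm, inv_smul_eq_iff.2 h2.symm⟩
    · exact Or.inr ⟨inv_smul_eq_iff.2 h2.symm, inv_smul_eq_iff.2 h1.symm⟩
  rw [Subgroup.mem_normalizer_iff]
  intro x
  refine ⟨key g hg x, fun hx => ?_⟩
  have := key g⁻¹ hg' _ hx
  simpa [mul_assoc] using this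

/-- An element conjugating a non-identity element of the two-point stabiliser into it preserves
the pair. -/
theorem pair_of_conj_mem {g x : G} (hx : x ∈ twoStab G a b) (hx1 : x ≠ 1)
    (hgx : g⁻¹ * x * g ∈ twoStab G a b) :
    (g • a = a ∨ g • a = b) ∧ (g • b = a ∨ g • b = b) := by
  have key : ∀ c, g⁻¹ * x * g ∈ stabilizer G c → g • c = a ∨ g • c = b := by
    intro c hc
    have : x • (g • c) = g • c := by
      have h := congrArg (g • ·) (mem_stabilizer_iff.1 hc)
      simpa [← mul_smul, ← mul_assoc] using h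
    by_contra hne
    rw [not_or] at hne
    exact hx1 (Perm.Zass.eq_one_of_three hZ hab (Ne.symm hne.2) (Ne.symm hne.1) hx.1 hx.2 this)
  exact ⟨key a hgx.1, key b hgx.2⟩

omit hab in
/-- With a two-point stabiliser of odd order an involution fixes at most one point. -/
theorem involution_fix_unique (hodd : ∀ c d : Ω, c ≠ d → Odd (Nat.card (twoStab G c d))) {s : G}
    (hs : orderOf s = 2) {c d : Ω} (hc : s • c = c) (hd : s • d = d) : c = d := by
  by_contra hcd
  have h1 : orderOf (⟨s, hc, hd⟩ : twoStab G c d) ∣ Nat.card (twoStab G c d) :=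
    orderOf_dvd_natCard _
  rw [← Subgroup.orderOf_coe, hs] at h1
  exact (Nat.not_even_iff_odd.2 (hodd c d hcd)) (even_iff_two_dvd.2 h1)

/-- The two-point stabiliser has cyclic Sylow subgroups when of odd order. -/
theorem isZGroup_twoStab (hodd : Odd (Nat.card (twoStab G a b))) :
    IsZGroup (twoStab G a b) := by
  classical
  set S := stabilizer G a
  set E : Subgroup S := (twoStab G a b).subgroupOf S with hE
  have hcardE : Nat.card E = Nat.card (twoStab G a b) :=
    Nat.card_congr (Subgroup.subgroupOfEquivOfLe inf_le_left).toEquiv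
  have hFrob : Cfsg.IsFrobeniusComplement E := by
    refine ⟨fun h => ?_, fun h => ?_, fun g hg => ?_⟩
    · have := twoStab_nontrivial hZ hab
      rw [← hcardE, h, Subgroup.card_bot] at this
      exact lt_irrefl _ this
    · have h1 := card_stabilizer hZ hab
      have h2 : Nat.card E = Nat.card S := by rw [h, Subgroup.card_top]
      rw [hcardE, h1] at h2
      have := Perm.Zass.three_le hZ
      have hpos : 0 < Nat.card (twoStab G a b) := Nat.card_pos
      have : 2 * Nat.card (twoStab G a b) ≤ (Fintype.card Ω - 1) * Nat.card (twoStab G a b) :=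
        Nat.mul_le_mul_right _ (by omega)
      omega
    · rw [eq_bot_iff]
      rintro x ⟨hx, hxg⟩
      rw [Subgroup.mem_bot]
      by_contra hx1
      change x ∈ MulAut.conj g • E at hxg
      rw [Coprime.mem_conj_smul_iff] at hxg
      apply hg
      have h1 := pair_of_conj_mem hZ hab (g := (g : G)) (x := (x : G)) hx
        (fun h => hx1 (Subtype.ext h)) hxg
      refine ⟨g.2, ?_⟩
      rcases h1.2 with h | h
      · exact absurd (smul_left_cancel (g : G) (h.trans (mem_stabilizer_iff.1 g.2).symm)) hab.symm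
      · exact h
  obtain ⟨K, hKk, hKn, hKc⟩ := CharInt.exists_frobeniusKernel hFrob
  have hK : K ≠ ⊥ := fun h => hFrob.2.1 (by
    have := hKc.sup_eq_top
    rwa [h, bot_sup_eq] at this)
  haveI := hKn
  have hf := (Frobenius.isFrobeniusComplement_iff hKc hK hFrob.1).1 hFrob
  let f : twoStab G a b ≃* E := (Subgroup.subgroupOfEquivOfLe inf_le_left).symm
  suffices h : IsZGroup E by exact IsZGroup.of_injective (f := f.toMonoidHom) f.injective
  refine ⟨fun p hp P => ?_⟩
  haveI := Fact.mk hp
  rcases subsingleton_or_nontrivial P with hP | hP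
  · exact isCyclic_of_subsingleton
  have hp2 : p ≠ 2 := by
    rintro rfl
    obtain ⟨k, hk⟩ := P.2.exists_card_eq
    have hk0 : k ≠ 0 := by
      rintro rfl
      rw [pow_zero] at hk
      exact (Finite.one_lt_card (α := P)).ne' hk
    have : 2 ∣ Nat.card E := (dvd_pow_self 2 hk0).trans (hk ▸ Subgroup.card_subgroup_dvd_card _)
    rw [hcardE] at this
    exact (Nat.not_even_iff_odd.2 hodd) (even_iff_two_dvd.2 this)
  set A : Subgroup S := (P : Subgroup E).map E.subtype with hA
  have hAp : IsPGroup p A := P.2.map _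
  have hAle : A ≤ Subgroup.normalizer (K : Set S) := by
    rw [Subgroup.normalizer_eq_top (H := K)]; exact le_top
  have hsolv : Group.IsSolvable A := by
    haveI := hAp.isNilpotent
    infer_instance
  obtain ⟨W, hWc, hW, hAW, hWf⟩ := Frobenius.exists_abelian_invariant hAle hK hsolv
    (fun x hx hx1 => hf x (Subgroup.map_subtype_le _ hx) hx1)
  haveI := hWc
  open scoped IsMulCommutative in
  have hfpf := Frobenius.Fpf.isFpf_conjHom A W hAW hWf
  haveI : Nontrivial W := (Subgroup.nontrivial_iff_ne_bot W).2 hW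
  have huniq : ∀ H L : Subgroup A, Nat.card H = p → Nat.card L = p → H = L :=
    fun H L hH hL => Frobenius.Fpf.eq_of_card_eq_prime hfpf hAp hH hL
  have hcyc : IsCyclic A := by
    rcases PGroup.cyclic_or_quaternion_of_unique hAp huniq with h | h
    · exact h
    · exact absurd h.1 hp2
  exact ((P : Subgroup E).equivMapOfInjective E.subtype E.subtype_injective).isCyclic.2 hcyc

/-- In a perfect group with two-point stabiliser of odd order, that stabiliser is cyclic and is
inverted by every element interchanging the two points whose square is trivial. -/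
theorem twoStab_inverted (hperf : commutator G = ⊤) (hodd : Odd (Nat.card (twoStab G a b)))
    {t : G} (hta : t • a = b) (ht2 : t * t = 1) :
    ∀ x ∈ twoStab G a b, t * x * t⁻¹ = x⁻¹ := by
  classical
  set E := twoStab G a b with hE
  haveI : IsZGroup E := isZGroup_twoStab hZ hab hodd
  have htb : t • b = a := by rw [← hta, ← mul_smul, ht2, one_smul]
  have htE : ∀ x ∈ E, t * x * t⁻¹ ∈ E := fun x hx => by
    have := conj_mem_twoStab hta htb hx
    exact ⟨this.2, this.1⟩
  let M : Subgroup G :=
    { carrier := {g | (g • a = a ∧ g • b = b) ∨ (g • a = b ∧ g • b = a)}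
      one_mem' := Or.inl ⟨one_smul G a, one_smul G b⟩
      mul_mem' := by
        rintro g k (⟨h1, h2⟩ | ⟨h1, h2⟩) (⟨h3, h4⟩ | ⟨h3, h4⟩) <;>
          simp [mul_smul, h1, h2, h3, h4]
      inv_mem' := by
        rintro g (⟨h1, h2⟩ | ⟨h1, h2⟩)
        · exact Or.inl ⟨inv_smul_eq_iff.2 h1.symm, inv_smul_eq_iff.2 h2.symm⟩
        · exact Or.inr ⟨inv_smul_eq_iff.2 h2.symm, inv_smul_eq_iff.2 h1.symm⟩ }
  have htM : t ∈ M := Or.inr ⟨hta, htb⟩
  have hEM : E ≤ M := fun x hx => Or.inl hx
  have hMN : M ≤ Subgroup.normalizer (E : Set G) := by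
    rintro g (⟨h1, h2⟩ | ⟨h1, h2⟩)
    · exact mem_normalizer_twoStab hZ hab (Or.inl h1) (Or.inr h2)
    · exact mem_normalizer_twoStab hZ hab (Or.inr h1) (Or.inl h2)
  -- transfer: the stabiliser lies in the commutator subgroup of `M`
  have htr : ∀ x ∈ E, x ∈ ⁅M, M⁆ := by
    intro x hx
    rcases eq_or_ne x 1 with rfl | hx1
    · exact one_mem _
    let φ : M →* Abelianization M := Abelianization.of
    have h1 : φ.transfer x = 1 := by
      have h2 : commutator G ≤ φ.transfer.ker := Abelianization.commutator_subset_ker _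
      rw [hperf] at h2
      exact h2 (Subgroup.mem_top x)
    haveI : Fintype (Quotient (orbitRel (Subgroup.zpowers x) (G ⧸ M))) := Fintype.ofFinite _
    rw [MonoidHom.transfer_eq_prod_quotient_orbitRel_zpowers_quot] at h1
    -- only the trivial coset contributes
    set q₀ : Quotient (orbitRel (Subgroup.zpowers x) (G ⧸ M)) := Quotient.mk _ ((1 : G) : G ⧸ M)
    have hper : ∀ q : G ⧸ M, Function.minimalPeriod (x • ·) q ≠ orderOf x → q = ((1 : G) : G ⧸ M) := by
      intro q
      induction q using QuotientGroup.induction_on with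
      | H k =>
        intro hne
        set d := Function.minimalPeriod (x • ·) (k : G ⧸ M)
        have hd : x ^ d • (k : G ⧸ M) = (k : G ⧸ M) := MulAction.pow_period_smul x _
        have hdlt : x ^ d ≠ 1 := by
          intro hxd
          have h1 : orderOf x ∣ d := orderOf_dvd_of_pow_eq_one hxd
          have h2 : d ∣ orderOf x := by
            rw [← MulAction.pow_smul_eq_iff_minimalPeriod_dvd, pow_orderOf_eq_one, one_smul]
          exact hne (Nat.dvd_antisymm h2 h1)
        rw [MulAction.Quotient.smul_mk, QuotientGroup.eq, smul_eq_mul, mul_inv_rev] at hd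
        rcases M.inv_mem hd with ⟨h1, h2⟩ | ⟨h1, h2⟩
        · have hk : k⁻¹ * x ^ d * k ∈ E := by
            refine ⟨?_, ?_⟩
            · show (k⁻¹ * x ^ d * k) • a = a
              simpa [mul_assoc] using h1
            · show (k⁻¹ * x ^ d * k) • b = b
              simpa [mul_assoc] using h2
          obtain ⟨hga, hgb⟩ := pair_of_conj_mem hZ hab (Subgroup.pow_mem _ hx d) hdlt hk
          have : k ∈ M := by
            rcases hga with ha | ha <;> rcases hgb with hb | hb
            · exact absurd (smul_left_cancel k (ha.trans hb.symm)) hab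
            · exact Or.inl ⟨ha, hb⟩
            · exact Or.inr ⟨ha, hb⟩
            · exact absurd (smul_left_cancel k (ha.trans hb.symm)) hab
          rw [QuotientGroup.eq, mul_one]
          exact M.inv_mem this
        · -- an element of odd order cannot interchange two points
          exfalso
          set y := k⁻¹ * x ^ d * k
          have hy1 : y • a = b := by simpa [y, mul_assoc] using h1
          have hy2 : y • b = a := by simpa [y, mul_assoc] using h2
          have hord : Odd (orderOf y) := by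
            have e : orderOf y = orderOf (x ^ d) := by
              rw [show y = MulAut.conj k⁻¹ (x ^ d) by simp [y, mul_assoc], MulEquiv.orderOf_eq]
            rw [e]
            have h3 : orderOf (x ^ d) ∣ Nat.card E := by
              have := orderOf_dvd_natCard (⟨x ^ d, Subgroup.pow_mem _ hx d⟩ : E)
              rwa [Subgroup.orderOf_mk] at this
            exact Odd.of_dvd_nat hodd h3
          obtain ⟨j, hj⟩ := hord
          have hsq : ∀ i : ℕ, y ^ (2 * i) • a = a := by
            intro i
            induction i with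
            | zero => simp
            | succ i ih =>
              rw [Nat.mul_succ, pow_add, mul_smul, pow_two, mul_smul, hy1, hy2, ih]
          have hya : y • a = a := by
            nth_rewrite 1 [← hsq j]
            rw [← mul_smul, ← pow_succ', ← hj, pow_orderOf_eq_one, one_smul]
          exact hab (hya.symm.trans hy1)
    rw [Fintype.prod_eq_single q₀] at h1
    · have h0 : q₀.out = ((1 : G) : G ⧸ M) := by
        have hfix : ∀ r ∈ orbit (Subgroup.zpowers x) ((1 : G) : G ⧸ M), r = ((1 : G) : G ⧸ M) := by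
          rintro _ ⟨⟨u, hu⟩, rfl⟩
          show u • ((1 : G) : G ⧸ M) = _
          rw [MulAction.Quotient.smul_mk, QuotientGroup.eq, mul_one, smul_eq_mul, mul_one]
          exact M.inv_mem (hEM ((Subgroup.zpowers_le.2 hx) hu))
        exact hfix _ (orbitRel_apply.1 (Quotient.mk_out (s := orbitRel (Subgroup.zpowers x) (G ⧸ M))
          ((1 : G) : G ⧸ M)))
      have hper0 : Function.minimalPeriod (x • ·) q₀.out = 1 := by
        rw [Function.minimalPeriod_eq_one_iff_isFixedPt, h0]
        show x • ((1 : G) : G ⧸ M) = _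
        rw [MulAction.Quotient.smul_mk, QuotientGroup.eq, mul_one, smul_eq_mul, mul_one]
        exact M.inv_mem (hEM hx)
      set m := Quotient.out q₀.out
      have hm : m ∈ M := by
        have : (m : G ⧸ M) = ((1 : G) : G ⧸ M) := (QuotientGroup.out_eq' _).trans h0
        rw [QuotientGroup.eq, mul_one] at this
        exact (M.inv_mem_iff).1 this
      have hmem : m⁻¹ * x * m ∈ M := M.mul_mem (M.mul_mem (M.inv_mem hm) (hEM hx)) hm
      have h5 : φ ⟨m⁻¹ * x * m, hmem⟩ = 1 := by
        refine Eq.trans ?_ h1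
        congr 1
        apply Subtype.ext
        show _ = m⁻¹ * x ^ _ * m
        rw [hper0, pow_one]
      have h6 : φ ⟨x, hEM hx⟩ = 1 := by
        have : (⟨m⁻¹ * x * m, hmem⟩ : M) = ⟨m, hm⟩⁻¹ * ⟨x, hEM hx⟩ * ⟨m, hm⟩ := rfl
        rw [this, map_mul, map_mul, map_inv, mul_right_comm, inv_mul_cancel, one_mul] at h5
        exact h5
      have h7 : (⟨x, hEM hx⟩ : M) ∈ commutator M := by
        rw [← Abelianization.ker_of]; exact h6
      rw [← Subgroup.map_subtype_commutator]
      exact ⟨_, h7, rfl⟩
    · intro q hq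
      have : Function.minimalPeriod (x • ·) q.out = orderOf x := by
        by_contra hne
        apply hq
        rw [← Quotient.out_eq q, hper _ hne]
      refine Eq.trans (congrArg φ (show _ = (1 : M) from Subtype.ext ?_)) (map_one φ)
      show (Quotient.out q.out)⁻¹ * x ^ _ * Quotient.out q.out = 1
      rw [this, pow_orderOf_eq_one, mul_one, inv_mul_cancel]
  -- `E` is cyclic
  haveI hEc : IsCyclic E := by
    set C := commutator E
    haveI : IsCyclic C := IsZGroup.isCyclic_commutator E
    set D := C.map E.subtype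
    haveI : IsCyclic D := (C.equivMapOfInjective E.subtype E.subtype_injective).isCyclic.1 ‹_›
    have hMD : M ≤ Subgroup.normalizer (D : Set G) := fun g hg => by
      rw [Subgroup.mem_normalizer_iff_map_conj_eq]
      simp only [D, C, Subgroup.map_subtype_commutator, Subgroup.map_commutator]
      have := Subgroup.mem_normalizer_iff_map_conj_eq.1 (hMN hg)
      rw [this]
    haveI : IsMulCommutative (MulAut D) := ⟨⟨fun p q => (IsCyclic.mulAutMulEquiv D).injective
      (by rw [map_mul, map_mul, mul_comm])⟩⟩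
    let ψ : M →* MulAut D := D.normalizerMonoidHom.comp (Subgroup.inclusion hMD)
    have hker : ∀ x ∈ ⁅M, M⁆, ∀ d ∈ D, x * d * x⁻¹ = d := by
      intro x hx d hd
      rw [← Subgroup.map_subtype_commutator] at hx
      obtain ⟨y, hy, rfl⟩ := hx
      have hψ : ψ y = 1 := by
        have : commutator M ≤ ψ.ker := by
          rw [commutator_def, Subgroup.commutator_le]
          intro g _ k _
          rw [MonoidHom.mem_ker, map_commutatorElement, commutatorElement_eq_one_iff_mul_comm]
          exact mul_comm' _ _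
        exact this hy
      exact congrArg Subtype.val (DFunLike.congr_fun hψ ⟨d, hd⟩)
    have hcent : C ≤ Subgroup.center E := by
      intro c hc
      rw [Subgroup.mem_center_iff]
      intro y
      apply Subtype.ext
      exact mul_inv_eq_iff_eq_mul.1 (hker y (htr y y.2) (c : G) ⟨c, hc, rfl⟩)
    haveI : Group.IsNilpotent E :=
      Subgroup.isNilpotent_of_ker_le_center (Abelianization.of : E →* Abelianization E)
        (by rw [Abelianization.ker_of]; exact hcent)
    infer_instance
  have hcomm : ∀ y ∈ E, ∀ z ∈ E, y * z = z * y := fun y hy z hz => by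
    obtain ⟨w, hw⟩ := IsCyclic.exists_generator (α := E)
    obtain ⟨i, hi⟩ := Subgroup.mem_zpowers_iff.1 (hw ⟨y, hy⟩)
    obtain ⟨j, hj⟩ := Subgroup.mem_zpowers_iff.1 (hw ⟨z, hz⟩)
    have : (⟨y, hy⟩ : E) * ⟨z, hz⟩ = ⟨z, hz⟩ * ⟨y, hy⟩ := by
      rw [← hi, ← hj, ← zpow_add, ← zpow_add, add_comm]
    exact congrArg Subtype.val this
  -- the map `y ↦ [t, y]`
  let f : E →* E :=
    { toFun := fun y => ⟨t * y * t⁻¹ * (y : G)⁻¹, E.mul_mem (htE _ y.2) (E.inv_mem y.2)⟩
      map_one' := Subtype.ext (by simp)
      map_mul' := fun y z => Subtype.ext (by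
        show t * ((y : G) * z) * t⁻¹ * ((y : G) * z)⁻¹ =
          t * y * t⁻¹ * (y : G)⁻¹ * (t * z * t⁻¹ * (z : G)⁻¹)
        rw [show t * ((y : G) * z) * t⁻¹ * ((y : G) * z)⁻¹ =
          t * y * t⁻¹ * ((t * z * t⁻¹ * (z : G)⁻¹) * (y : G)⁻¹) by group,
          hcomm _ (E.mul_mem (htE _ z.2) (E.inv_mem z.2)) _ (E.inv_mem y.2)]
        group) }
  have hcommM : ⁅M, M⁆ ≤ (f.range).map E.subtype := by
    have hdec : ∀ g ∈ M, ∃ y ∈ E, g = y ∨ g = y * t := by
      rintro g (⟨h1, h2⟩ | ⟨h1, h2⟩)
      · exact ⟨g, ⟨h1, h2⟩, Or.inl rfl⟩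
      · refine ⟨g * t, ⟨?_, ?_⟩, Or.inr (by rw [mul_assoc, ht2, mul_one])⟩
        · show (g * t) • a = a
          rw [mul_smul, hta, h2]
        · show (g * t) • b = b
          rw [mul_smul, htb, h1]
    have hmem : ∀ y ∈ E, t * y * t⁻¹ * y⁻¹ ∈ (f.range).map E.subtype := fun y hy =>
      ⟨_, ⟨⟨y, hy⟩, rfl⟩, rfl⟩
    have htinv : t⁻¹ = t := inv_eq_of_mul_eq_one_right ht2
    rw [Subgroup.commutator_le]
    intro g hg k hk
    obtain ⟨y, hy, rfl | rfl⟩ := hdec g hg <;> obtain ⟨z, hz, rfl | rfl⟩ := hdec k hk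
    · rw [commutatorElement_eq_one_iff_mul_comm.2 (hcomm _ hy _ hz)]
      exact one_mem _
    · have h1 := hmem _ (E.inv_mem hy)
      have h2 : ⁅g, z * t⁆ = t * g⁻¹ * t⁻¹ * g⁻¹⁻¹ := by
        rw [commutatorElement_def]
        calc g * (z * t) * g⁻¹ * (z * t)⁻¹ = g * (z * (t * g⁻¹ * t⁻¹)) * z⁻¹ := by group
          _ = g * (t * g⁻¹ * t⁻¹ * z) * z⁻¹ := by rw [hcomm z hz _ (htE _ (E.inv_mem hy))]
          _ = g * (t * g⁻¹ * t⁻¹) := by group
          _ = _ := by rw [inv_inv, hcomm g hy _ (htE _ (E.inv_mem hy))]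
      rw [h2]; exact h1
    · have h1 := hmem _ hz
      have h2 : ⁅y * t, k⁆ = t * k * t⁻¹ * k⁻¹ := by
        rw [commutatorElement_def]
        calc y * t * k * (y * t)⁻¹ * k⁻¹ = y * (t * k * t⁻¹) * y⁻¹ * k⁻¹ := by group
          _ = _ := by rw [hcomm y hy _ (htE _ hz)]; group
      rw [h2]; exact h1
    · have h1 := hmem _ (E.mul_mem hz (E.inv_mem hy))
      have h2 : ⁅y * t, z * t⁆ = t * (z * y⁻¹) * t⁻¹ * (z * y⁻¹)⁻¹ := by
        rw [commutatorElement_def]
        calc y * t * (z * t) * (y * t)⁻¹ * (z * t)⁻¹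
            = y * (t * (z * (t * t⁻¹) * y⁻¹) * t⁻¹) * z⁻¹ := by group
          _ = y * (t * (z * y⁻¹) * t⁻¹) * z⁻¹ := by rw [mul_inv_cancel, mul_one]
          _ = _ := by
            rw [hcomm y hy _ (htE _ (E.mul_mem hz (E.inv_mem hy)))]
            group
      rw [h2]; exact h1
  intro x hx
  obtain ⟨_, ⟨y, rfl⟩, hw⟩ := hcommM (htr x hx)
  rw [← hw]
  show t * (t * (y : G) * t⁻¹ * (y : G)⁻¹) * t⁻¹ = (t * (y : G) * t⁻¹ * (y : G)⁻¹)⁻¹
  rw [show t⁻¹ = t from inv_eq_of_mul_eq_one_right ht2]
  simp only [mul_inv_rev, inv_inv]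
  rw [show t⁻¹ = t from inv_eq_of_mul_eq_one_right ht2]
  calc t * (t * (y : G) * t * (y : G)⁻¹) * t = (t * t) * (y : G) * (t * (y : G)⁻¹ * t) := by group
    _ = _ := by rw [ht2, one_mul]; group

end Cfsg.Agent.ZassenhausOdd
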