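import Mathlib
import Cfsg.Agent.Lib.Perm.Zassenhaus
import Cfsg.Agent.Lib.ZassenhausOdd.Basic

/-!
# Involutions of a perfect Zassenhaus group with two-point stabilisers of odd order
-/

set_option autoImplicit false
set_option linter.style.haveILetI false
set_option linter.unusedSectionVars false

namespace Cfsg.Agent.ZassenhausOdd

open MulAction Finset
open scoped commutatorElement

variable {G Ω : Type*} [Group G] [Finite G] [MulAction G Ω] [Fintype Ω]

/-- A simple Zassenhaus group is perfect. -/
theorem commutator_eq_top [IsSimpleGroup G] (hZ : Cfsg.IsZassenhausGroup G Ω) :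
    commutator G = ⊤ := by
  refine (Subgroup.Normal.eq_bot_or_eq_top inferInstance).resolve_left fun h => ?_
  obtain ⟨g, hg, a, b, -, hga, -⟩ := hZ.2.2.2.1
  haveI := hZ.1
  haveI := hZ.2.1
  haveI : IsPretransitive G Ω := isPretransitive_of_is_two_pretransitive
  refine hg (FaithfulSMul.eq_of_smul_eq_smul (α := Ω) fun c => ?_)
  obtain ⟨k, rfl⟩ := MulAction.exists_smul_eq G a c
  have hmem : ⁅g, k⁆ ∈ (⊥ : Subgroup G) := by
    rw [← h]
    exact Subgroup.commutator_mem_commutator (Subgroup.mem_top g) (Subgroup.mem_top k)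
  rw [Subgroup.mem_bot, commutatorElement_eq_one_iff_mul_comm] at hmem
  rw [← mul_smul, hmem, mul_smul, hga, one_smul]

variable (hZ : Cfsg.IsZassenhausGroup G Ω) (hperf : commutator G = ⊤) {a b : Ω} (hab : a ≠ b)
  (hodd : Odd (Nat.card (twoStab G a b)))
include hZ hperf hab hodd

omit hperf in
theorem odd_twoStab {c d : Ω} (hcd : c ≠ d) : Odd (Nat.card (twoStab G c d)) := by
  rwa [card_twoStab_eq hZ hab hcd]

theorem mul_eq_of_swap {t s : G} (ht : orderOf t = 2) (hta : t • a = b)
    (hs : orderOf s = 2) (hsa : s • a = b) : t * s ∈ twoStab G a b := by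
  have htb : t • b = a := by rw [← hta, Perm.Zass.smul_smul_of_sq (Perm.Zass.sq_eq_one_of_order ht)]
  have hsb : s • b = a := by rw [← hsa, Perm.Zass.smul_smul_of_sq (Perm.Zass.sq_eq_one_of_order hs)]
  exact ⟨show (t * s) • a = a by rw [mul_smul, hsa, htb],
    show (t * s) • b = b by rw [mul_smul, hsb, hta]⟩

theorem orderOf_swap_mul {t x : G} (ht : orderOf t = 2) (hta : t • a = b)
    (hx : x ∈ twoStab G a b) : orderOf (t * x) = 2 := by
  refine orderOf_eq_prime (p := 2) ?_ fun h => hab ?_
  · have h := twoStab_inverted hZ hab hperf hodd hta (Perm.Zass.sq_eq_one_of_order ht) x hx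
    rw [inv_eq_of_mul_eq_one_right (Perm.Zass.sq_eq_one_of_order ht)] at h
    rw [pow_two, show t * x * (t * x) = t * x * t * x by group, h, inv_mul_cancel]
  · have h1 : (t * x) • a = b := by rw [mul_smul, (hx.1 : x • a = a), hta]
    rwa [h, one_smul] at h1

theorem isConj_of_swap {t s : G} (ht : orderOf t = 2) (hta : t • a = b)
    (hs : orderOf s = 2) (hsa : s • a = b) : IsConj t s := by
  set x := t * s
  have hx : x ∈ twoStab G a b := mul_eq_of_swap hZ hperf hab hodd ht hta hs hsa
  have hxodd : Odd (orderOf x) :=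
    Odd.of_dvd_nat hodd (by
      have := orderOf_dvd_natCard (⟨x, hx⟩ : twoStab G a b)
      rwa [← Subgroup.orderOf_coe] at this)
  obtain ⟨m, hm⟩ := hxodd
  set y := x ^ (m + 1)
  have hy : y ^ 2 = x := by
    rw [← pow_mul, show (m + 1) * 2 = orderOf x + 1 by omega, pow_succ, pow_orderOf_eq_one, one_mul]
  have ht2 := Perm.Zass.sq_eq_one_of_order ht
  have h := twoStab_inverted hZ hab hperf hodd hta ht2 y (Subgroup.pow_mem _ hx _)
  rw [inv_eq_of_mul_eq_one_right ht2] at h
  refine isConj_iff.2 ⟨y⁻¹, ?_⟩
  calc y⁻¹ * t * y⁻¹⁻¹ = t * y * t * t * y := by rw [h, inv_inv]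
    _ = t * y * y := by rw [mul_assoc (t * y), ht2, mul_one]
    _ = t * (t * s) := by rw [mul_assoc, ← pow_two, hy]
    _ = s := by rw [← mul_assoc, ht2, one_mul]

theorem isConj_involution {x y : G} (hx : orderOf x = 2) (hy : orderOf y = 2) : IsConj x y := by
  obtain ⟨t, ht, hta, -⟩ := Perm.Zass.exists_swap hZ hab
  suffices h : ∀ x : G, orderOf x = 2 → IsConj t x from (h x hx).symm.trans (h y hy)
  clear hx hy x y
  intro x hx
  haveI := hZ.1
  obtain ⟨c, hc⟩ : ∃ c : Ω, x • c ≠ c := by
    by_contra h
    push Not at h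
    have : x = 1 := FaithfulSMul.eq_of_smul_eq_smul (α := Ω) fun z => by rw [h z, one_smul]
    rw [this, orderOf_one] at hx
    omega
  obtain ⟨g, hga, hgb⟩ := Perm.Zass.two_trans hZ (Ne.symm hc) hab
  refine (isConj_of_swap hZ hperf hab hodd ht hta (s := g * x * g⁻¹) ?_ ?_).trans
    (isConj_iff.2 ⟨g, rfl⟩).symm
  · exact (MulEquiv.orderOf_eq (MulAut.conj g) x).trans hx
  · rw [← hga, ← hgb]
    simp [mul_smul]

variable [Fintype G] [DecidableEq G] [DecidableEq Ω]

/-- The number of involutions mapping `a` to `b`. -/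
theorem card_swap :
    (univ.filter fun s : G => orderOf s = 2 ∧ s • a = b).card = Nat.card (twoStab G a b) := by
  obtain ⟨t, ht, hta, -⟩ := Perm.Zass.exists_swap hZ hab
  have ht2 := Perm.Zass.sq_eq_one_of_order ht
  rw [Nat.subtype_card (univ.filter fun x : G => x • a = a ∧ x • b = b)
    (fun x => by simp [mem_twoStab])]
  refine card_bij' (fun s _ => t * s) (fun x _ => t * x) ?_ ?_ ?_ ?_
  · intro s hs
    simp only [mem_filter, mem_univ, true_and] at hs ⊢
    exact mul_eq_of_swap hZ hperf hab hodd ht hta hs.1 hs.2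
  · intro x hx
    simp only [mem_filter, mem_univ, true_and] at hx ⊢
    exact ⟨orderOf_swap_mul hZ hperf hab hodd ht hta hx, by rw [mul_smul, hx.1, hta]⟩
  · intros; simp [← mul_assoc, ht2]
  · intros; simp [← mul_assoc, ht2]

omit hperf in
theorem card_fixed_involution {s : G} (hs : orderOf s = 2) :
    (univ.filter fun c : Ω => s • c = c).card = if Odd (Fintype.card Ω) then 1 else 0 := by
  have hle : (univ.filter fun c : Ω => s • c = c).card ≤ 1 := by
    rw [card_le_one]
    intro c hc d hd
    simp only [mem_filter, mem_univ, true_and] at hc hd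
    exact involution_fix_unique hZ (fun c d h => odd_twoStab hZ hab hodd h) hs hc hd
  have hpar := Perm.Zass.card_fixed_parity (Ω := Ω) (Perm.Zass.sq_eq_one_of_order hs)
  rcases Nat.le_one_iff_eq_zero_or_eq_one.1 hle with h | h
  · rw [h] at hpar ⊢
    rw [if_neg (Nat.not_odd_iff_even.2 (hpar.1 Even.zero))]
  · rw [h] at hpar ⊢
    rw [if_pos (Nat.not_even_iff_odd.1 fun he => Nat.not_even_one (hpar.2 he))]

/-- The number of involutions. -/
theorem card_involutions :
    (univ.filter fun s : G => orderOf s = 2).card *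
        (Fintype.card Ω - if Odd (Fintype.card Ω) then 1 else 0) =
      Fintype.card Ω * (Fintype.card Ω - 1) * Nat.card (twoStab G a b) := by
  set I := univ.filter fun s : G => orderOf s = 2
  have h1 : ∑ s ∈ I, (univ.filter fun c : Ω => s • c ≠ c).card =
      I.card * (Fintype.card Ω - if Odd (Fintype.card Ω) then 1 else 0) := by
    rw [← smul_eq_mul, ← sum_const]
    refine sum_congr rfl fun s hs => ?_
    have h := card_filter_add_card_filter_not (s := (univ : Finset Ω)) (p := fun c => s • c = c)
    rw [card_fixed_involution hZ hab hodd (mem_filter.1 hs).2, card_univ] at h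
    simp only [ne_eq]
    omega
  rw [← h1]
  simp only [card_filter]
  rw [sum_comm]
  have h2 : ∀ c : Ω, (∑ s ∈ I, if s • c ≠ c then 1 else 0) =
      (Fintype.card Ω - 1) * Nat.card (twoStab G a b) := by
    intro c
    rw [← card_filter, card_eq_sum_card_fiberwise (f := fun s : G => s • c) (t := univ.erase c)]
    · rw [sum_congr rfl (g := fun _ => Nat.card (twoStab G a b))]
      · rw [sum_const, card_erase_of_mem (mem_univ _), card_univ, smul_eq_mul]
      · intro d hd
        have hcd : c ≠ d := (ne_of_mem_erase hd).symm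
        rw [← card_twoStab_eq hZ hab hcd,
          ← card_swap hZ hperf hcd (odd_twoStab hZ hab hodd hcd)]
        congr 1
        ext s
        simp only [I, mem_filter, mem_univ, true_and]
        exact ⟨fun h => ⟨h.1.1, h.2⟩, fun h => ⟨⟨h.1, h.2.symm ▸ hcd.symm⟩, h.2⟩⟩
    · intro s hs
      simp only [coe_filter, Set.mem_ofPred_eq] at hs
      simpa using hs.2
  rw [sum_congr rfl fun c _ => h2 c, sum_const, card_univ, smul_eq_mul, mul_assoc]

theorem card_involutions_of_odd (hn : Odd (Fintype.card Ω)) :
    (univ.filter fun s : G => orderOf s = 2).card =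
      Fintype.card Ω * Nat.card (twoStab G a b) := by
  have h := card_involutions hZ hperf hab hodd
  rw [if_pos hn, mul_right_comm (Fintype.card Ω)] at h
  exact Nat.eq_of_mul_eq_mul_right (by have := Perm.Zass.three_le hZ; omega) h

theorem card_involutions_of_even (hn : Even (Fintype.card Ω)) :
    (univ.filter fun s : G => orderOf s = 2).card =
      (Fintype.card Ω - 1) * Nat.card (twoStab G a b) := by
  have h := card_involutions hZ hperf hab hodd
  rw [if_neg (Nat.not_odd_iff_even.2 hn), Nat.sub_zero, mul_assoc, mul_comm (Fintype.card Ω)] at h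
  exact Nat.eq_of_mul_eq_mul_right (by have := Perm.Zass.three_le hZ; omega) h

/-- The number of involutions fixing a point, in odd degree. -/
theorem card_involutions_fixing (hn : Odd (Fintype.card Ω)) (c : Ω) :
    (univ.filter fun s : G => orderOf s = 2 ∧ s • c = c).card = Nat.card (twoStab G a b) := by
  haveI := hZ.2.1
  haveI : IsPretransitive G Ω := isPretransitive_of_is_two_pretransitive
  set I := univ.filter fun s : G => orderOf s = 2
  have h1 : ∑ d : Ω, (I.filter fun s => s • d = d).card = I.card := by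
    simp only [card_filter (fun s : G => s • (_ : Ω) = _)]
    rw [sum_comm, card_eq_sum_ones I]
    refine sum_congr rfl fun s hs => ?_
    rw [← card_filter, card_fixed_involution hZ hab hodd (mem_filter.1 hs).2, if_pos hn]
  have h2 : ∀ d : Ω, (I.filter fun s => s • d = d).card =
      (I.filter fun s => s • c = c).card := by
    intro d
    obtain ⟨k, hk⟩ := MulAction.exists_smul_eq G d c
    refine card_bij' (fun s _ => k * s * k⁻¹) (fun s _ => k⁻¹ * s * k) ?_ ?_ ?_ ?_
    · intro s hs
      simp only [I, mem_filter, mem_univ, true_and] at hs ⊢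
      refine ⟨(MulEquiv.orderOf_eq (MulAut.conj k) s).trans hs.1, ?_⟩
      rw [← hk]; simp [mul_smul, hs.2]
    · intro s hs
      simp only [I, mem_filter, mem_univ, true_and] at hs ⊢
      refine ⟨?_, ?_⟩
      · have := (MulEquiv.orderOf_eq (MulAut.conj k⁻¹) s).trans hs.1
        simpa using this
      · rw [show d = k⁻¹ • c by rw [← hk, inv_smul_smul]]
        simp [mul_smul, hs.2]
    · intros; group
    · intros; group
  rw [sum_congr rfl fun d _ => h2 d, sum_const, card_univ, smul_eq_mul,
    card_involutions_of_odd hZ hperf hab hodd hn] at h1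
  rw [← Nat.eq_of_mul_eq_mul_left (by have := Perm.Zass.three_le hZ; omega) h1, filter_filter]

end Cfsg.Agent.ZassenhausOdd
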