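import Mathlib
import Cfsg.Agent.Lib.Perm.Zassenhaus
import Cfsg.Agent.Lib.ZassenhausOdd.Basic

/-!
# The kernel of a point stabiliser in a Zassenhaus group

A subgroup of order `|Ω| - 1` of a point stabiliser whose non-identity elements fix one point only
consists exactly of `1` and all elements fixing that point only.
-/

set_option autoImplicit false
set_option linter.unusedSectionVars false

namespace Cfsg.Agent.ZassenhausOdd

open MulAction Finset

variable {G Ω : Type*} [Group G] [Finite G] [MulAction G Ω] [Fintype Ω]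
  (hZ : Cfsg.IsZassenhausGroup G Ω) {a : Ω} {H : Subgroup G} (hHa : H ≤ stabilizer G a)
  (hHcard : Nat.card H + 1 = Fintype.card Ω)
  (hHfix : ∀ u ∈ H, u ≠ 1 → ∀ c : Ω, u • c = c → c = a)
include hZ hHa hHcard hHfix

theorem mem_kernel_of_fix_only {g : G} (hga : g • a = a) (hg : ∀ c, g • c = c → c = a) :
    g ∈ H := by
  classical
  obtain ⟨b, hba, -⟩ := Perm.Zass.exists_third hZ a a
  letI := Fintype.ofFinite G
  have hsub : (univ.filter fun x : G => x ∈ H).erase 1 ⊆
      univ.filter fun x : G => x • a = a ∧ ∀ c, x • c = c → c = a := by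
    intro x hx
    simp only [mem_erase, mem_filter, mem_univ, true_and] at hx ⊢
    exact ⟨hHa hx.2, hHfix x hx.2 hx.1⟩
  have hH : (univ.filter fun x : G => x ∈ H).card = Nat.card H :=
    (Nat.subtype_card _ fun x => by simp).symm
  have heq := eq_of_subset_of_card_le hsub (by
    rw [card_fix_only hZ hba.symm, card_erase_of_mem (by simp), hH]
    omega)
  have : g ∈ (univ.filter fun x : G => x ∈ H).erase 1 := by
    rw [heq]; simp [hga]; exact hg
  simpa using (mem_erase.1 this).2

theorem kernel_conj {g u : G} (hga : g • a = a) (hu : u ∈ H) : g * u * g⁻¹ ∈ H := by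
  rcases eq_or_ne u 1 with rfl | hu1
  · simp
  refine mem_kernel_of_fix_only hZ hHa hHcard hHfix ?_ fun c hc => ?_
  · rw [mul_smul, mul_smul, inv_smul_eq_iff.2 hga.symm, hHa hu, hga]
  · have h := hHfix u hu hu1 (g⁻¹ • c) (by
      rw [← smul_left_cancel_iff g]; simpa [mul_smul] using hc)
    rw [inv_smul_eq_iff] at h
    rw [h, hga]

theorem smul_eq_of_conj_mem {g u : G} (hu : u ∈ H) (hu1 : u ≠ 1) (h : g * u * g⁻¹ ∈ H) :
    g • a = a :=
  hHfix _ h (by simpa using hu1) (g • a) (by
    rw [smul_smul, inv_mul_cancel_right, mul_smul, (hHa hu : u • a = a)])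

theorem normalizer_kernel : Subgroup.normalizer (H : Set G) = stabilizer G a := by
  refine le_antisymm (fun g hg => ?_) fun g hg => ?_
  · obtain ⟨u, hu, hu1⟩ : ∃ u ∈ H, u ≠ 1 := by
      by_contra h
      push Not at h
      have : Nat.card H = 1 := by
        rw [Nat.card_eq_one_iff_unique]
        exact ⟨⟨fun x y => Subtype.ext ((h _ x.2).trans (h _ y.2).symm)⟩, ⟨1⟩⟩
      have := Perm.Zass.three_le hZ
      omega
    exact smul_eq_of_conj_mem hZ hHa hHcard hHfix hu hu1
      ((Subgroup.mem_normalizer_iff.1 hg u).1 hu)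
  · rw [Subgroup.mem_normalizer_iff]
    intro u
    refine ⟨fun hu => kernel_conj hZ hHa hHcard hHfix hg hu, fun hu => ?_⟩
    have := kernel_conj hZ hHa hHcard hHfix (g := g⁻¹) (inv_smul_eq_iff.2 hg.symm) hu
    simpa [mul_assoc] using this

end Cfsg.Agent.ZassenhausOdd
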