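import Mathlib
import Cfsg.Prelude.Def_Characters
import Cfsg.Agent.Lib.Char.Orthogonality
import Cfsg.Agent.Lib.Char.Induction
import Cfsg.Agent.Lib.Char.Linear
import Cfsg.Agent.Lib.ZassenhausOdd.Involutions
import Cfsg.Agent.Lib.ZassenhausOdd.Kernel

/-!
# Inducing a linear character of a point stabiliser in a Zassenhaus group
-/

set_option autoImplicit false
set_option linter.style.haveILetI false
set_option linter.unusedSectionVars false

namespace Cfsg.Agent.ZassenhausOdd

open MulAction Finset
open scoped ComplexConjugate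

variable {G Ω : Type*} [Group G] [Fintype G] [MulAction G Ω] [Fintype Ω] [DecidableEq Ω]
variable (hZ : Cfsg.IsZassenhausGroup G Ω) (hperf : commutator G = ⊤) {a b : Ω} (hab : a ≠ b)
  (hodd : Odd (Nat.card (twoStab G a b))) (lam : stabilizer G a →* ℂ)
include hZ hperf hab hodd

/-- The value of the induced character at an element of the point stabiliser. -/
theorem indFun_stabilizer (s : stabilizer G a) :
    Cfsg.indFun (stabilizer G a) (⇑lam) (s : G) =
      lam s + ∑ c ∈ univ.erase a, if (s : G) • c = c then lam s⁻¹ else 0 := by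
  classical
  haveI := hZ.2.1
  haveI : IsPretransitive G Ω := isPretransitive_of_is_two_pretransitive
  set F := Cfsg.extendByZero (stabilizer G a) (⇑lam)
  have hfib : ∀ c : Ω, ∑ x ∈ univ.filter (fun x : G => x • a = c), F (x⁻¹ * s * x) =
      (Nat.card (stabilizer G a) : ℂ) *
        if c = a then lam s else if (s : G) • c = c then lam s⁻¹ else 0 := by
    intro c
    obtain ⟨k, hk, hkk⟩ : ∃ k : G, k • a = c ∧
        (c ≠ a → (s : G) • c = c → k⁻¹ * (s : G) * k = (s : G)⁻¹) ∧ (c = a → k = 1) := by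
      rcases eq_or_ne c a with rfl | hc
      · exact ⟨1, one_smul _ _, fun h => absurd rfl h, fun _ => rfl⟩
      · obtain ⟨k, hk2, hka, -⟩ := Perm.Zass.exists_swap hZ hc.symm
        refine ⟨k, hka, fun _ hsc => ?_, fun h => absurd h hc⟩
        have hkk := Perm.Zass.sq_eq_one_of_order hk2
        have h := twoStab_inverted hZ hc.symm hperf (odd_twoStab hZ hab hodd hc.symm) hka hkk
          (s : G) ⟨s.2, hsc⟩
        rw [inv_eq_of_mul_eq_one_right hkk] at h ⊢
        exact h
    have hcard : (univ.filter fun x : G => x • a = c).card = Nat.card (stabilizer G a) := by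
      rw [Nat.subtype_card (univ.filter fun x : G => x • a = a) (fun x => by simp [mem_stabilizer_iff])]
      refine card_bij' (fun x _ => k⁻¹ * x) (fun x _ => k * x) ?_ ?_ ?_ ?_
      · intro x hx
        simp only [mem_filter, mem_univ, true_and] at hx ⊢
        rw [mul_smul, hx, inv_smul_eq_iff, hk]
      · intro x hx
        simp only [mem_filter, mem_univ, true_and] at hx ⊢
        rw [mul_smul, hx, hk]
      · intros; simp
      · intros; simp
    rw [← hcard, ← nsmul_eq_mul, ← sum_const]
    refine sum_congr rfl fun x hx => ?_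
    have hxa : x • a = c := (mem_filter.1 hx).2
    by_cases hsc : (s : G) • c = c
    · have hmem : x⁻¹ * s * x ∈ stabilizer G a := by
        rw [mem_stabilizer_iff, mul_smul, mul_smul, hxa, hsc, inv_smul_eq_iff, hxa]
      have hy : k⁻¹ * x ∈ stabilizer G a := by
        rw [mem_stabilizer_iff, mul_smul, hxa, inv_smul_eq_iff, hk]
      rw [show F (x⁻¹ * s * x) = lam ⟨_, hmem⟩ from Char.extendByZero_of_mem _ _ hmem]
      have hconj : ∀ (y z : stabilizer G a), lam (y⁻¹ * z * y) = lam z := by
        intro y z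
        rw [map_mul, map_mul, mul_right_comm, ← map_mul, inv_mul_cancel, map_one, one_mul]
      split_ifs with hca
      · rw [hkk.2 hca] at hy
        rw [← hconj ⟨x, by simpa using hy⟩ s]
        rfl
      · have h := hkk.1 hca hsc
        rw [← hconj ⟨_, hy⟩ s⁻¹]
        congr 1
        apply Subtype.ext
        show x⁻¹ * s * x = (k⁻¹ * x)⁻¹ * (s : G)⁻¹ * (k⁻¹ * x)
        rw [← h]; group
    · have hca : c ≠ a := by rintro rfl; exact hsc s.2
      rw [if_neg hca, if_neg hsc]
      refine Char.extendByZero_of_notMem _ _ ?_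
      rw [mem_stabilizer_iff, mul_smul, mul_smul, hxa, inv_smul_eq_iff, hxa]
      exact hsc
  have hpos : (Nat.card (stabilizer G a) : ℂ) ≠ 0 := Nat.cast_ne_zero.2 Nat.card_pos.ne'
  rw [Cfsg.indFun, ← sum_fiberwise univ (fun x : G => x • a), sum_congr rfl fun c _ => hfib c,
    ← mul_sum, ← mul_assoc, inv_mul_cancel₀ hpos, one_mul, ← add_sum_erase _ _ (mem_univ a),
    if_pos rfl]
  exact congrArg _ (sum_congr rfl fun c hc => if_neg (ne_of_mem_erase hc))

omit hperf hodd in
/-- A linear character trivial off the two-point stabilisers and on one of them is trivial. -/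
theorem lam_eq_one (honly : ∀ s : stabilizer G a, (∀ c, (s : G) • c = c → c = a) → lam s = 1)
    {c : Ω} (hc : a ≠ c) (h : ∀ s : stabilizer G a, (s : G) • c = c → lam s = 1) : lam = 1 := by
  refine MonoidHom.ext fun s => ?_
  by_cases hs : ∀ d, (s : G) • d = d → d = a
  · exact honly s hs
  push Not at hs
  obtain ⟨d, hd, hda⟩ := hs
  obtain ⟨k, hka, hkd⟩ := Perm.Zass.two_trans hZ hc hda.symm
  have hk : k ∈ stabilizer G a := hka
  have h2 := h (⟨k, hk⟩⁻¹ * s * ⟨k, hk⟩) (by
    show (k⁻¹ * (s : G) * k) • c = c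
    rw [mul_smul, mul_smul, hkd, hd, inv_smul_eq_iff, hkd])
  rw [map_mul, map_mul, mul_right_comm, ← map_mul, inv_mul_cancel, map_one, one_mul] at h2
  exact h2

omit hperf in
theorem sum_twoStab_eq_zero (honly : ∀ s : stabilizer G a, (∀ c, (s : G) • c = c → c = a) → lam s = 1)
    (hne : lam ≠ 1) [DecidableEq G] {c : Ω} (hc : a ≠ c) :
    ∑ s : stabilizer G a, (if (s : G) • c = c then lam s⁻¹ ^ 2 else 0) = 0 := by
  classical
  set K : Subgroup (stabilizer G a) := (stabilizer G c).subgroupOf (stabilizer G a)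
  let ψ : K →* ℂ :=
    { toFun := fun k => lam (k : stabilizer G a)⁻¹ ^ 2
      map_one' := by simp
      map_mul' := fun x y => by simp [mul_inv_rev, map_mul, mul_pow, mul_comm] }
  have hψ : ψ ≠ 1 := by
    intro hψ1
    refine hne (lam_eq_one hZ hab lam honly hc fun s hs => ?_)
    have hord : Odd (orderOf s) := by
      refine Odd.of_dvd_nat (odd_twoStab hZ hab hodd hc) ?_
      have := orderOf_dvd_natCard (⟨(s : G), s.2, hs⟩ : twoStab G a c)
      rw [← Subgroup.orderOf_coe] at this
      rwa [← Subgroup.orderOf_coe s]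
    obtain ⟨m, hm⟩ := hord
    have hmem : (s ^ (m + 1))⁻¹ ∈ K := K.inv_mem (K.pow_mem (show s ∈ K from hs) _)
    have h := DFunLike.congr_fun hψ1 ⟨_, hmem⟩
    simp only [ψ, MonoidHom.coe_mk, OneHom.coe_mk, inv_inv, MonoidHom.one_apply, ← map_pow,
      ← pow_mul] at h
    rwa [show (m + 1) * 2 = orderOf s + 1 by omega, pow_succ, pow_orderOf_eq_one, one_mul] at h
  rw [← sum_filter, ← sum_hom_units_eq_zero ψ hψ]
  exact Finset.sum_subtype _ (fun s => by simp [K, Subgroup.mem_subgroupOf, mem_stabilizer_iff])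
    (fun s : stabilizer G a => lam s⁻¹ ^ 2)

theorem isIrrCharacter_indFun
    (honly : ∀ s : stabilizer G a, (∀ c, (s : G) • c = c → c = a) → lam s = 1) (hne : lam ≠ 1) :
    Cfsg.IsIrrCharacter G (Cfsg.indFun (stabilizer G a) (⇑lam)) := by
  classical
  have hchar : Cfsg.IsCharacter (stabilizer G a) (⇑lam) :=
    Char.IsIrrCharacter.isCharacter (Char.isIrrCharacter_of_monoidHom lam)
  refine Char.isIrrCharacter_iff.2 ⟨Char.isCharacter_indFun _ hchar, ?_⟩
  rw [Char.classInner_indFun_right _ _ (Char.isClassFunction_indFun _ _)]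
  have hnorm : ∀ s, lam s * conj (lam s) = 1 := Char.normSq_linear lam
  have hinv : ∀ s, lam s⁻¹ * conj (lam s) = lam s⁻¹ ^ 2 := by
    intro s
    have h : conj (lam s) = lam s⁻¹ := by
      calc conj (lam s) = lam (s⁻¹ * s) * conj (lam s) := by rw [inv_mul_cancel, map_one, one_mul]
        _ = lam s⁻¹ := by rw [map_mul, mul_assoc, hnorm, mul_one]
    rw [h, pow_two]
  have hterm : ∀ s : stabilizer G a,
      Cfsg.indFun (stabilizer G a) (⇑lam) (s : G) * conj (lam s) =
        1 + ∑ c ∈ univ.erase a, if (s : G) • c = c then lam s⁻¹ ^ 2 else 0 := by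
    intro s
    rw [indFun_stabilizer hZ hperf hab hodd lam s, add_mul, hnorm, sum_mul]
    simp only [ite_mul, zero_mul, hinv]
  have hsum : ∑ s : stabilizer G a, Cfsg.indFun (stabilizer G a) (⇑lam) (s : G) * conj (lam s) =
      (Nat.card (stabilizer G a) : ℂ) := by
    rw [sum_congr rfl fun s _ => hterm s, sum_add_distrib, sum_comm,
      sum_eq_zero (s := univ.erase a) fun c hc =>
        sum_twoStab_eq_zero hZ hab hodd lam honly hne (ne_of_mem_erase hc).symm,
      add_zero, sum_const, card_univ, nsmul_one, Nat.card_eq_fintype_card]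
  rw [Cfsg.classInner, hsum, inv_mul_cancel₀ (Nat.cast_ne_zero.2 Nat.card_pos.ne')]

end Cfsg.Agent.ZassenhausOdd
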