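import Mathlib
import Cfsg.Agent.Lib.ZassenhausOdd.Induced
import Cfsg.Agent.Lib.ZassenhausOdd.FreeClasses
import Cfsg.Agent.Lib.CharInt.Central
import Cfsg.Agent.Lib.TICent.Norm

/-!
# Perfect Zassenhaus groups with abelian kernel and two-point stabilisers of odd order

Write `|Ω| = h + 1` and `e` for the order of a two-point stabiliser.  If `e < h - 1` there are two
classes of fixed-point-free elements, hence an irreducible character `χ` separating them.  Such a
character is neither a constituent of the permutation character nor of a character induced from a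
linear character of a point stabiliser, nor does it occur in the virtual characters `(φ₀ - φ)^G`.
So all non-trivial characters of the kernel `H` have the same multiplicity in `χ` restricted to
`H`, the trivial one none, so `h - 1` divides `χ 1` and `|G|`, that is `h - 1 ∣ 2 e`.
-/

set_option autoImplicit false
set_option linter.style.haveILetI false
set_option linter.unusedSectionVars false

namespace Cfsg.Agent.ZassenhausOdd

open MulAction Finset
open scoped ComplexConjugate

variable {G Ω : Type*} [Group G] [Fintype G] [MulAction G Ω] [Fintype Ω]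
variable (hZ : Cfsg.IsZassenhausGroup G Ω) (hperf : commutator G = ⊤) {a b : Ω} (hab : a ≠ b)
  (hodd : Odd (Nat.card (twoStab G a b))) {H : Subgroup G} (hHa : H ≤ stabilizer G a)
  (hHcard : Nat.card H + 1 = Fintype.card Ω)
  (hHfix : ∀ u ∈ H, u ≠ 1 → ∀ c : Ω, u • c = c → c = a)
include hZ hab hHa hHcard hHfix

/-- The kernel is transitive on the points other than `a`. -/
theorem exists_kernel_smul {c : Ω} (hc : c ≠ a) : ∃ v ∈ H, v • b = c := by
  classical
  let f : H → {x : Ω // x ≠ a} := fun u =>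
    ⟨(u : G) • b, fun e => hab.symm (smul_left_cancel _ (e.trans (hHa u.2 : (u : G) • a = a).symm))⟩
  have hf : Function.Injective f := by
    intro u v e
    have e' : (u : G) • b = (v : G) • b := congrArg Subtype.val e
    by_contra hne
    have h1 : (v : G)⁻¹ * u ≠ 1 := fun h => hne (Subtype.ext (inv_mul_eq_one.1 h).symm)
    exact hab.symm (hHfix _ (H.mul_mem (H.inv_mem v.2) u.2) h1 b (by rw [mul_smul, e', inv_smul_smul]))
  letI := Fintype.ofFinite H
  obtain ⟨u, hu⟩ := ((Fintype.bijective_iff_injective_and_card f).2 ⟨hf, by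
    rw [← Nat.card_eq_fintype_card, Fintype.card_subtype_compl, Fintype.card_subtype_eq]
    omega⟩).2 ⟨c, hc⟩
  exact ⟨u, u.2, congrArg Subtype.val hu⟩

theorem conj_kernel_mem (s : stabilizer G a) (u : H) : (s : G) * u * (s : G)⁻¹ ∈ H :=
  kernel_conj hZ hHa hHcard hHfix s.2 u.2

theorem kernel_normal : (H.subgroupOf (stabilizer G a)).Normal :=
  ⟨fun u hu s => kernel_conj hZ hHa hHcard hHfix s.2 hu⟩

omit hab in
/-- An element of the point stabiliser outside the kernel fixes a second point. -/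
theorem exists_fix_of_notMem {s : stabilizer G a} (hs : (s : G) ∉ H) :
    ∃ c, c ≠ a ∧ (s : G) • c = c := by
  by_contra h
  push Not at h
  exact hs (mem_kernel_of_fix_only hZ hHa hHcard hHfix s.2 fun c hc => by
    by_contra hca
    exact h c hca hc)

include hperf hodd

/-- The sum of the linear characters of the point stabiliser trivial on the kernel vanishes off the
kernel. -/
theorem exists_linear_sum : ∃ (T : Finset (stabilizer G a →* ℂ)), T.Nonempty ∧
    (∀ lam ∈ T, ∀ s : stabilizer G a, (s : G) ∈ H → lam s = 1) ∧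
    ∀ s : stabilizer G a, (s : G) ∉ H → ∑ lam ∈ T, lam s = 0 := by
  classical
  set A := stabilizer G a
  haveI : (H.subgroupOf A).Normal := kernel_normal hZ hab hHa hHcard hHfix
  haveI : Finite (A →* ℂ) := Finite.of_injective _ (Char.linIrr_injective (G := A))
  letI := Fintype.ofFinite (A →* ℂ)
  refine ⟨univ.filter fun lam => ∀ s : A, (s : G) ∈ H → lam s = 1, ⟨1, by simp⟩,
    fun lam hlam => (mem_filter.1 hlam).2, fun s hs => ?_⟩
  -- the quotient by the kernel is commutative
  obtain ⟨t, ht, hta, -⟩ := Perm.Zass.exists_swap hZ hab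
  have hinv := twoStab_inverted hZ hab hperf hodd hta (Perm.Zass.sq_eq_one_of_order ht)
  have hEc : ∀ x ∈ twoStab G a b, ∀ y ∈ twoStab G a b, x * y = y * x := by
    intro x hx y hy
    have e1 := hinv _ (mul_mem hx hy)
    rw [show t * (x * y) * t⁻¹ = (t * x * t⁻¹) * (t * y * t⁻¹) by group, hinv _ hx, hinv _ hy,
      ← mul_inv_rev] at e1
    exact (inv_injective e1).symm
  have hdec : ∀ r : A, ∃ u : A, (u : G) ∈ H ∧ (u : G)⁻¹ * r ∈ twoStab G a b := by
    intro r
    have hne : (r : G) • b ≠ a := fun e => hab.symm (smul_left_cancel _ (e.trans (r.2 : (r : G) • a = a).symm))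
    obtain ⟨u, hu, hub⟩ := exists_kernel_smul hZ hab hHa hHcard hHfix hne
    refine ⟨⟨u, hHa hu⟩, hu, ?_, ?_⟩
    · show (u⁻¹ * (r : G)) • a = a
      rw [mul_smul, (r.2 : (r : G) • a = a), inv_smul_eq_iff, (hHa hu : u • a = a)]
    · show (u⁻¹ * (r : G)) • b = b
      rw [mul_smul, ← hub, inv_smul_smul]
  have hq : ∀ r r' : A ⧸ H.subgroupOf A, r * r' = r' * r := by
    intro r r'
    obtain ⟨r, rfl⟩ := QuotientGroup.mk_surjective r
    obtain ⟨r', rfl⟩ := QuotientGroup.mk_surjective r'
    obtain ⟨u, hu, hur⟩ := hdec r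
    obtain ⟨u', hu', hur'⟩ := hdec r'
    have e1 : ((u⁻¹ * r : A) : A ⧸ H.subgroupOf A) = (r : A ⧸ H.subgroupOf A) := by
      rw [QuotientGroup.mk_mul, QuotientGroup.mk_inv,
        (QuotientGroup.eq_one_iff u).2 (show u ∈ H.subgroupOf A from hu), inv_one, one_mul]
    have e2 : ((u'⁻¹ * r' : A) : A ⧸ H.subgroupOf A) = (r' : A ⧸ H.subgroupOf A) := by
      rw [QuotientGroup.mk_mul, QuotientGroup.mk_inv,
        (QuotientGroup.eq_one_iff u').2 (show u' ∈ H.subgroupOf A from hu'), inv_one, one_mul]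
    rw [← e1, ← e2, ← QuotientGroup.mk_mul, ← QuotientGroup.mk_mul,
      show u⁻¹ * r * (u'⁻¹ * r') = u'⁻¹ * r' * (u⁻¹ * r) from Subtype.ext (hEc _ hur _ hur')]
  letI : CommGroup (A ⧸ H.subgroupOf A) :=
    { (inferInstance : Group (A ⧸ H.subgroupOf A)) with mul_comm := hq }
  obtain ⟨φ, hφ⟩ := CommGroup.exists_apply_ne_one_of_hasEnoughRootsOfUnity (A ⧸ H.subgroupOf A) ℂ
    (show (s : A ⧸ H.subgroupOf A) ≠ 1 from fun h => hs ((QuotientGroup.eq_one_iff s).1 h))
  set mu : A →* ℂ := (Units.coeHom ℂ).comp (φ.comp (QuotientGroup.mk' _))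
  have hmu1 : mu s ≠ 1 := fun h => hφ (Units.ext h)
  have hmuH : ∀ r : A, (r : G) ∈ H → mu r = 1 := fun r hr => by
    show ((φ (r : A ⧸ H.subgroupOf A) : ℂˣ) : ℂ) = 1
    rw [(QuotientGroup.eq_one_iff r).2 (show r ∈ H.subgroupOf A from hr), map_one, Units.val_one]
  set T := univ.filter fun lam : A →* ℂ => ∀ s : A, (s : G) ∈ H → lam s = 1
  have hmu0 : ∀ r, mu r ≠ 0 := fun r => Units.ne_zero _
  have hinj : Function.Injective fun lam : A →* ℂ => mu * lam := fun l l' h => MonoidHom.ext fun r =>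
    mul_left_cancel₀ (hmu0 r) (DFunLike.congr_fun h r)
  have hbij : T.image (fun lam => mu * lam) = T := by
    refine eq_of_subset_of_card_le (fun l hl => ?_) (by rw [card_image_of_injective _ hinj])
    obtain ⟨l', hl', rfl⟩ := mem_image.1 hl
    refine mem_filter.2 ⟨mem_univ _, fun r hr => ?_⟩
    rw [MonoidHom.mul_apply, hmuH r hr, (mem_filter.1 hl').2 r hr, one_mul]
  have h1 : ∑ lam ∈ T, lam s = mu s * ∑ lam ∈ T, lam s := by
    conv_lhs => rw [← hbij]
    rw [sum_image (fun x _ y _ h => hinj h), mul_sum]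
    rfl
  have h2 : (mu s - 1) * ∑ lam ∈ T, lam s = 0 := by rw [sub_mul, one_mul, ← h1, sub_self]
  exact (mul_eq_zero.1 h2).resolve_left (sub_ne_zero.2 hmu1)

/-- An irreducible character whose restriction to the kernel contains the trivial character takes
equal values at fixed-point-free elements. -/
theorem eq_of_trivial_constituent (χ : Cfsg.IrrCharacter G) [Fintype H]
    (hχ : Cfsg.classInner (fun u : H => χ.1 (u : G)) (fun _ => 1) ≠ 0) {x y : G}
    (hx : ∀ c : Ω, x • c ≠ c) (hy : ∀ c : Ω, y • c ≠ c) : χ.1 x = χ.1 y := by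
  classical
  set A := stabilizer G a
  obtain ⟨T, hTne, hTH, hT0⟩ := exists_linear_sum hZ hperf hab hodd hHa hHcard hHfix
  obtain ⟨lam, hlamT, hlam⟩ : ∃ lam ∈ T, Cfsg.classInner (fun s : A => χ.1 (s : G)) (⇑lam) ≠ 0 := by
    by_contra h
    push Not at h
    have h1 : ∑ lam ∈ T, Cfsg.classInner (fun s : A => χ.1 (s : G)) (⇑lam) = 0 := sum_eq_zero h
    simp only [Cfsg.classInner, ← mul_sum] at h1
    rw [sum_comm] at h1
    simp only [← mul_sum, ← map_sum] at h1
    have h2 : ∀ s : A, χ.1 (s : G) * conj (∑ lam ∈ T, lam s) =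
        if (s : G) ∈ H then χ.1 (s : G) * T.card else 0 := by
      intro s
      split_ifs with hs
      · rw [sum_congr rfl fun l hl => hTH l hl s hs]; simp
      · rw [hT0 s hs, map_zero, mul_zero]
    rw [sum_congr rfl fun s _ => h2 s, ← sum_filter, ← sum_mul,
      sum_bij (t := (univ : Finset H)) (g := fun u : H => χ.1 (u : G))
        (fun (s : A) hs => (⟨(s : G), (mem_filter.1 hs).2⟩ : H)) (fun _ _ => mem_univ _)
        (fun s _ s' _ e => Subtype.ext (congrArg (fun u : H => (u : G)) e))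
        (fun u _ => ⟨⟨u, hHa u.2⟩, mem_filter.2 ⟨mem_univ _, u.2⟩, rfl⟩) (fun _ _ => rfl)] at h1
    have hsum : ∑ u : H, χ.1 (u : G) ≠ 0 := fun h0 => hχ (by
      simp [Cfsg.classInner, h0])
    have hT : (T.card : ℂ) ≠ 0 := Nat.cast_ne_zero.2 (card_ne_zero.2 hTne)
    rcases mul_eq_zero.1 h1 with h1 | h1
    · exact inv_ne_zero (Nat.cast_ne_zero.2 Nat.card_pos.ne') h1
    · exact hsum ((mul_eq_zero.1 h1).resolve_right hT)
  have hind0 : ∀ g : G, (∀ c : Ω, g • c ≠ c) → Cfsg.indFun A (⇑lam) g = 0 := fun g hg =>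
    Char.indFun_eq_zero_of_forall_notMem _ _ fun k hk => hg (k • a) (by
      rwa [mem_stabilizer_iff, mul_smul, mul_smul, inv_smul_eq_iff] at hk)
  have hcl := Char.IsCharacter.isClassFunction (Char.irr_isCharacter χ)
  have hmult : Cfsg.classInner χ.1 (Cfsg.indFun A (⇑lam)) ≠ 0 := by
    rwa [Char.classInner_indFun_right A _ hcl]
  by_cases hne : lam = 1
  · subst hne
    set π := Cfsg.indFun A (⇑(1 : A →* ℂ))
    have hone : Cfsg.IsCharacter A (⇑(1 : A →* ℂ)) :=
      Char.IsIrrCharacter.isCharacter (Char.isIrrCharacter_of_monoidHom _)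
    have hπc : Cfsg.IsCharacter G π := Char.isCharacter_indFun _ hone
    have h1c : Cfsg.IsClassFunction G (fun _ : G => (1 : ℂ)) :=
      Char.IsCharacter.isClassFunction Char.isCharacter_one
    have hcardA : (Nat.card A : ℂ) ≠ 0 := Nat.cast_ne_zero.2 Nat.card_pos.ne'
    have h11 : Cfsg.classInner π (fun _ : G => (1 : ℂ)) = 1 := by
      rw [Char.classInner_indFun A _ h1c]
      simp [Cfsg.classInner, Nat.card_eq_fintype_card]
    have hππ : Cfsg.classInner π π = 2 := by
      rw [Char.classInner_indFun A _ (Char.isClassFunction_indFun _ _)]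
      have hv : ∀ s : A, conj (π (s : G)) =
          1 + ∑ c ∈ univ.erase a, if (s : G) • c = c then (1 : ℂ) else 0 := by
        intro s
        show conj (Cfsg.indFun A (⇑(1 : A →* ℂ)) (s : G)) = _
        rw [indFun_stabilizer hZ hperf hab hodd 1 s]
        simp [apply_ite]
      simp only [Cfsg.classInner, MonoidHom.one_apply, one_mul]
      rw [sum_congr rfl fun s _ => hv s, sum_add_distrib, sum_comm]
      have hc : ∀ c ∈ univ.erase a, (∑ s : A, if (s : G) • c = c then (1 : ℂ) else 0) =
          (Nat.card (twoStab G a b) : ℂ) := by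
        intro c hc
        rw [sum_boole, ← card_twoStab_eq hZ hab (ne_of_mem_erase hc).symm, ← Fintype.card_subtype,
          ← Nat.card_eq_fintype_card]
        congr 1
        exact Nat.card_congr ⟨fun s => ⟨s.1, s.1.2, s.2⟩, fun g => ⟨⟨g, g.2.1⟩, g.2.2⟩,
          fun s => rfl, fun g => rfl⟩
      rw [sum_congr rfl hc, sum_const, sum_const, card_univ, nsmul_one, nsmul_eq_mul,
        ← Nat.card_eq_fintype_card, card_erase_of_mem (mem_univ a), card_univ, ← Nat.cast_mul,
        ← card_stabilizer hZ hab]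
      field_simp
      ring
    set θ : G → ℂ := π - fun _ => 1
    have hθ : Cfsg.IsGeneralizedCharacter G θ := ⟨π, _, hπc, Char.isCharacter_one, rfl⟩
    have h1π : Cfsg.classInner (fun _ : G => (1 : ℂ)) π = 1 := by
      rw [← Char.conj_classInner, h11, map_one]
    have hθn : Cfsg.classInner θ θ = 1 := by
      simp only [θ, Char.classInner_sub_left, Char.classInner_sub_right, hππ, h11, h1π,
        Char.classInner_irr_self Char.isIrrCharacter_one]
      norm_num
    by_cases hχ1 : χ.1 = fun _ => 1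
    · rw [hχ1]
    have hχθ : Cfsg.classInner χ.1 θ ≠ 0 := by
      simp only [θ, Char.classInner_sub_right,
        Char.classInner_irr_of_ne χ.2 Char.isIrrCharacter_one hχ1, sub_zero]
      exact hmult
    have hθxy : θ x = θ y := by
      simp only [θ, Pi.sub_apply, π, hind0 x hx, hind0 y hy]
    obtain ⟨ψ, hψ | hψ⟩ := Char.IsGeneralizedCharacter.irr_or_neg_of_norm_one hθ hθn
    · have : χ = ψ := by
        by_contra hne
        exact hχθ (by rw [hψ, Char.classInner_irr, if_neg hne])
      rw [this]; rw [hψ] at hθxy; exact hθxy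
    · have : χ = ψ := by
        by_contra hne
        exact hχθ (by rw [hψ, Char.classInner_neg_right, Char.classInner_irr, if_neg hne, neg_zero])
      rw [this]; rw [hψ] at hθxy; exact neg_injective hθxy
  · have honly : ∀ s : A, (∀ c, (s : G) • c = c → c = a) → lam s = 1 := fun s hs =>
      hTH lam hlamT s (mem_kernel_of_fix_only hZ hHa hHcard hHfix s.2 hs)
    have hirr := isIrrCharacter_indFun hZ hperf hab hodd lam honly hne
    have : χ.1 = Cfsg.indFun A (⇑lam) := by
      by_contra hne'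
      exact hmult (Char.classInner_irr_of_ne χ.2 hirr hne')
    rw [this, hind0 x hx, hind0 y hy]

variable (hHc : ∀ u ∈ H, ∀ v ∈ H, u * v = v * u)
include hHc

/-- **Abelian kernel:** `|Ω| - 2` divides twice the order of a two-point stabiliser. -/
theorem dvd_two_mul_of_abelian_of_perfect :
    Fintype.card Ω - 2 ∣ 2 * Nat.card (twoStab G a b) := by
  classical
  letI := Fintype.ofFinite H
  by_cases hlt : Nat.card (twoStab G a b) < Fintype.card Ω - 2
  swap
  · have hd : Nat.card (twoStab G a b) ≤ Fintype.card Ω - 2 := by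
      obtain ⟨c, hca, hcb⟩ := Perm.Zass.exists_third hZ a b
      have hinj : Function.Injective (fun x : twoStab G a b =>
          (⟨(x : G) • c, mem_erase.2 ⟨fun e => hcb (smul_left_cancel _ (e.trans (show (x : G) • b = b from x.2.2).symm)),
            mem_erase.2 ⟨fun e => hca (smul_left_cancel _ (e.trans (show (x : G) • a = a from x.2.1).symm)),
              mem_univ _⟩⟩⟩ : {w : Ω // w ∈ (univ.erase a).erase b})) := by
        intro x x' e
        have e' : (x : G) • c = (x' : G) • c := congrArg Subtype.val e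
        refine Subtype.ext (inv_mul_eq_one.1 (Perm.Zass.eq_one_of_three hZ hab hcb.symm hca.symm
          ?_ ?_ (by rw [mul_smul, e', inv_smul_smul]))).symm
        · rw [mul_smul, show (x : G) • a = a from x.2.1, inv_smul_eq_iff, show (x' : G) • a = a from x'.2.1]
        · rw [mul_smul, show (x : G) • b = b from x.2.2, inv_smul_eq_iff, show (x' : G) • b = b from x'.2.2]
      have h := Nat.card_le_card_of_injective _ hinj
      rwa [Nat.card_eq_finsetCard, card_erase_of_mem (mem_erase.2 ⟨hab.symm, mem_univ b⟩),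
        card_erase_of_mem (mem_univ a), card_univ] at h
    rw [show Nat.card (twoStab G a b) = Fintype.card Ω - 2 by omega]
    exact dvd_mul_left _ _
  obtain ⟨x, y, hx, hy, hxy⟩ := exists_two_fpf_classes hZ hab hodd hlt
  have h3 := Perm.Zass.three_le hZ
  set A := stabilizer G a
  -- conjugation on the kernel
  let c : A → (H ≃* H) := fun s =>
    { toFun := fun u => ⟨_, conj_kernel_mem hZ hab hHa hHcard hHfix s u⟩
      invFun := fun u => ⟨_, conj_kernel_mem hZ hab hHa hHcard hHfix s⁻¹ u⟩
      left_inv := fun u => Subtype.ext (by simp [mul_assoc])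
      right_inv := fun u => Subtype.ext (by simp [mul_assoc])
      map_mul' := fun u v => Subtype.ext (by simp [mul_assoc]) }
  have hcv : ∀ (s : A) (u : H), ((c s u : H) : G) = (s : G) * u * (s : G)⁻¹ := fun s u => rfl
  have hcc : ∀ u v : H, u * v = v * u := fun u v => Subtype.ext (hHc u u.2 v v.2)
  let cj : A → Cfsg.IrrCharacter H → Cfsg.IrrCharacter H := fun s φ =>
    ⟨φ.1 ∘ c s, Char.IsIrrCharacter.comp_surjective φ.2 (c s).toMonoidHom (c s).surjective⟩
  let one : Cfsg.IrrCharacter H := ⟨fun _ => 1, Char.isIrrCharacter_one⟩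
  have hfree : ∀ (s : A) (φ : Cfsg.IrrCharacter H), (s : G) ∉ H → cj s φ = φ → φ = one := by
    intro s φ hs hfx
    obtain ⟨lam, hlam⟩ := Char.IsCharacter.exists_monoidHom (Char.irr_isCharacter φ)
      (Char.apply_one_of_comm hcc φ)
    obtain ⟨d, hda, hd⟩ := exists_fix_of_notMem hZ hHa hHcard hHfix hs
    let f : H → H := fun u => u⁻¹ * c s u
    have hf : Function.Injective f := by
      intro u v h
      have hw : c s (v * u⁻¹) = v * u⁻¹ := by
        have h' : c s v = v * (u⁻¹ * c s u) := by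
          rw [show u⁻¹ * c s u = v⁻¹ * c s v from h]; group
        rw [map_mul, map_inv, h', mul_assoc, mul_assoc, mul_inv_cancel, mul_one]
      by_contra hne
      have hw1 : ((v * u⁻¹ : H) : G) ≠ 1 := fun e =>
        hne (mul_inv_eq_one.1 (Subtype.ext e : v * u⁻¹ = 1)).symm
      have hwd : (s : G) • ((v * u⁻¹ : H) : G) • d = ((v * u⁻¹ : H) : G) • d := by
        have e : (s : G) * ((v * u⁻¹ : H) : G) * (s : G)⁻¹ = ((v * u⁻¹ : H) : G) :=
          congrArg Subtype.val hw
        rw [← mul_smul, mul_inv_eq_iff_eq_mul.1 e, mul_smul, hd]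
      have hs1 : (s : G) = 1 := by
        refine Perm.Zass.eq_one_of_three hZ (a := a) (b := d) (c := ((v * u⁻¹ : H) : G) • d)
          hda.symm ?_ ?_ s.2 hd hwd
        · exact fun e => hda (hHfix _ (v * u⁻¹ : H).2 hw1 d e.symm)
        · exact fun e => hda (smul_left_cancel _ (e.symm.trans (hHa (v * u⁻¹ : H).2).symm))
      exact hs (hs1 ▸ one_mem H)
    refine Subtype.ext (funext fun u => ?_)
    obtain ⟨v, rfl⟩ := (Finite.injective_iff_surjective.1 hf) u
    have h1 : φ.1 (c s v) = φ.1 v := congrFun (congrArg Subtype.val hfx) v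
    rw [← hlam] at h1 ⊢
    show lam (v⁻¹ * c s v) = 1
    rw [map_mul, h1, ← map_mul, inv_mul_cancel, map_one]
  have hcjmul : ∀ (s : A) (φ : Cfsg.IrrCharacter H), cj s (cj s⁻¹ φ) = φ := fun s φ =>
    Subtype.ext (funext fun u => congrArg φ.1 (Subtype.ext (by
      rw [hcv, hcv]; simp [mul_assoc])))
  have hcjH : ∀ (s : A) (φ : Cfsg.IrrCharacter H), (s : G) ∈ H → cj s φ = φ := fun s φ hs =>
    Subtype.ext (funext fun u => congrArg φ.1 (Subtype.ext (by
      rw [hcv, hHc _ hs u u.2, mul_inv_cancel_right])))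
  -- induced differences
  have hres : ∀ α : H → ℂ, α 1 = 0 → ∀ u : H,
      Cfsg.indFun H α (u : G) = (Nat.card H : ℂ)⁻¹ * ∑ s : A, α (c s⁻¹ u) := by
    intro α hα u
    rcases eq_or_ne u 1 with rfl | hu
    · simp only [map_one, hα, sum_const_zero, mul_zero, OneMemClass.coe_one, Char.indFun_apply_one]
    simp only [Cfsg.indFun]
    congr 1
    refine (Fintype.sum_of_injective (Subtype.val : A → G) Subtype.val_injective _ _ ?_ ?_).symm
    · intro k hk
      refine Char.extendByZero_of_notMem _ _ fun hm => hk ⟨⟨k, ?_⟩, rfl⟩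
      have h := hHfix u u.2 (fun e => hu (Subtype.ext e)) (k • a) (by
        have := MulAction.mem_stabilizer_iff.1 (hHa hm)
        rwa [mul_smul, mul_smul, inv_smul_eq_iff] at this)
      exact h
    · intro s
      rw [Char.extendByZero_of_mem H α (by
        have := conj_kernel_mem hZ hab hHa hHcard hHfix s⁻¹ u
        simpa using this)]
      congr 1
      apply Subtype.ext
      rw [hcv]; simp
  let mult : Cfsg.IrrCharacter G → Cfsg.IrrCharacter H → ℂ := fun χ φ =>
    Cfsg.classInner (fun u : H => χ.1 (u : G)) φ.1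
  have hmcj : ∀ χ s φ, mult χ (cj s φ) = mult χ φ := by
    intro χ s φ
    simp only [mult, Cfsg.classInner]
    congr 1
    refine Fintype.sum_equiv (c s).toEquiv _ _ fun u => ?_
    show χ.1 (u : G) * _ = χ.1 ((c s u : H) : G) * _
    rw [hcv, Char.IsCharacter.isClassFunction (Char.irr_isCharacter χ) (u : G) (s : G)]
    rfl
  obtain ⟨φ₀, hφ₀⟩ : ∃ φ₀ : Cfsg.IrrCharacter H, φ₀ ≠ one := by
    by_contra h
    push Not at h
    have := Char.sum_degree_sq (G := H)
    rw [Fintype.sum_eq_single one (fun φ hφ => absurd (h φ) hφ)] at this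
    have hd : Char.degree one = 1 := by
      have h' : ((Char.degree one : ℕ) : ℂ) = 1 := (Char.apply_one_eq_degree one).symm
      exact_mod_cast h'
    rw [hd] at this
    omega
  let D : Cfsg.IrrCharacter H → G → ℂ := fun φ => Cfsg.indFun H (φ₀.1 - φ.1)
  have hα1 : ∀ φ : Cfsg.IrrCharacter H, (φ₀.1 - φ.1) 1 = 0 := fun φ => by
    rw [Pi.sub_apply, Char.apply_one_of_comm hcc, Char.apply_one_of_comm hcc, sub_self]
  have hD0 : ∀ φ g, (∀ c : Ω, g • c ≠ c) → D φ g = 0 := fun φ g hg =>
    Char.indFun_eq_zero_of_forall_notMem _ _ fun k hk => hg (k • a) (by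
      have := MulAction.mem_stabilizer_iff.1 (hHa hk)
      rwa [mul_smul, mul_smul, inv_smul_eq_iff] at this)
  have hDinner : ∀ φ φ', φ ≠ one → φ' ≠ one → (∀ s, cj s φ₀ ≠ φ) → (∀ s, cj s φ₀ ≠ φ') →
      Cfsg.classInner (D φ) (D φ') =
        1 + ((univ.filter fun s : A => φ = cj s φ').card : ℂ) / Nat.card H := by
    intro φ φ' h1 h1' ho ho'
    simp only [D]
    rw [Char.classInner_indFun H _ (Char.isClassFunction_indFun _ _)]
    have hfun : (fun u : H => Cfsg.indFun H (φ₀.1 - φ'.1) (u : G)) =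
        (Nat.card H : ℂ)⁻¹ • ∑ s : A, ((cj s⁻¹ φ₀).1 - (cj s⁻¹ φ').1) := by
      funext u
      rw [hres _ (hα1 φ') u, Pi.smul_apply, smul_eq_mul, Finset.sum_apply]
      rfl
    rw [hfun, Char.classInner_smul_right, Char.classInner_sum_right, map_inv₀, map_natCast]
    have hterm : ∀ s : A, Cfsg.classInner (φ₀.1 - φ.1) ((cj s⁻¹ φ₀).1 - (cj s⁻¹ φ').1) =
        (if (s : G) ∈ H then (1 : ℂ) else 0) + if φ = cj s⁻¹ φ' then 1 else 0 := by
      intro s
      simp only [Char.classInner_sub_left, Char.classInner_sub_right, Char.classInner_irr]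
      rw [if_neg (fun e : φ = cj s⁻¹ φ₀ => ho _ e.symm),
        if_neg (fun e : φ₀ = cj s⁻¹ φ' => ho' s (by rw [e, hcjmul]))]
      by_cases hs : (s : G) ∈ H
      · rw [if_pos hs, if_pos (hcjH _ φ₀ (by simpa using hs)).symm]; ring
      · rw [if_neg hs, if_neg (fun e : φ₀ = cj s⁻¹ φ₀ =>
          hφ₀ (hfree s⁻¹ φ₀ (by simpa using hs) e.symm))]; ring
    rw [sum_congr rfl fun s _ => hterm s, sum_add_distrib, sum_boole, sum_boole, mul_add]
    congr 1
    · rw [← Fintype.card_subtype, ← Nat.card_eq_fintype_card,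
        show Nat.card {s : A // (s : G) ∈ H} = Nat.card H from
          Nat.card_congr (Subgroup.subgroupOfEquivOfLe hHa).toEquiv]
      exact inv_mul_cancel₀ (Nat.cast_ne_zero.2 Nat.card_pos.ne')
    · rw [div_eq_inv_mul]
      congr 2
      exact card_bij' (fun s _ => s⁻¹) (fun s _ => s⁻¹) (fun s hs => by simpa using hs)
        (fun s hs => by simpa using hs) (fun s _ => inv_inv s) (fun s _ => inv_inv s)
  have hDn : ∀ φ, φ ≠ one → (∀ s, cj s φ₀ ≠ φ) → Cfsg.classInner (D φ) (D φ) = 2 := by
    intro φ h1 ho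
    rw [hDinner φ φ h1 h1 ho ho,
      show (univ.filter fun s : A => φ = cj s φ) = univ.filter fun s : A => (s : G) ∈ H from
        filter_congr fun s _ => ⟨fun e => by_contra fun hs => h1 (hfree s φ hs e.symm),
          fun hs => (hcjH s φ hs).symm⟩,
      ← Fintype.card_subtype, ← Nat.card_eq_fintype_card,
      show Nat.card {s : A // (s : G) ∈ H} = Nat.card H from
        Nat.card_congr (Subgroup.subgroupOfEquivOfLe hHa).toEquiv,
      div_self (Nat.cast_ne_zero.2 Nat.card_pos.ne')]
    norm_num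
  have hDg : ∀ φ, Cfsg.IsGeneralizedCharacter G (D φ) := fun φ =>
    Char.isGeneralizedCharacter_indFun _ ⟨φ₀.1, φ.1, Char.irr_isCharacter _, Char.irr_isCharacter _, rfl⟩
  have hD1 : ∀ φ, D φ 1 = 0 := fun φ => by
    simp only [D, Char.indFun_apply_one, hα1, mul_zero]
  have hDχ : ∀ (χ : Cfsg.IrrCharacter G) φ, Cfsg.classInner χ.1 (D φ) = mult χ φ₀ - mult χ φ := by
    intro χ φ
    simp only [D, mult]
    rw [Char.classInner_indFun_right H _ (Char.IsCharacter.isClassFunction (Char.irr_isCharacter χ)),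
      Char.classInner_sub_right]
  let X : Cfsg.IrrCharacter G → Prop := fun χ =>
    ∃ φ, φ ≠ one ∧ (∀ s, cj s φ₀ ≠ φ) ∧ Cfsg.classInner (D φ) χ.1 ≠ 0
  -- the exceptional characters have common values at `x` and at `y`
  have hcommon : ∀ χ η, X χ → X η → χ.1 x = η.1 x ∧ χ.1 y = η.1 y := by
    rintro χ η ⟨φ, h1, ho, hχ⟩ ⟨φ', h1', ho', hη⟩
    obtain ⟨χ', -, hχe, -, -⟩ := TICent.two_coeff (hDg φ) (hDn φ h1 ho) (hD1 φ) hχ
    obtain ⟨η', -, hηe, -, -⟩ := TICent.two_coeff (hDg φ') (hDn φ' h1' ho') (hD1 φ') hη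
    have hne : Cfsg.classInner (D φ) (D φ') ≠ 0 := by
      rw [hDinner φ φ' h1 h1' ho ho']
      intro h0
      have h1 := congrArg Complex.re h0
      simp only [Complex.add_re, Complex.one_re, Complex.zero_re, Complex.div_natCast_re,
        Complex.natCast_re] at h1
      have : (0 : ℝ) ≤ ((univ.filter fun s : A => φ = cj s φ').card : ℝ) / Nat.card H := by positivity
      linarith
    have key : ∀ g, (∀ c : Ω, g • c ≠ c) → χ.1 g = χ'.1 g ∧ η.1 g = η'.1 g := by
      intro g hg
      have e1 := hD0 φ g hg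
      have e2 := hD0 φ' g hg
      constructor
      · rcases hχe with h | h <;> rw [h, Pi.sub_apply, sub_eq_zero] at e1
        · exact e1
        · exact e1.symm
      · rcases hηe with h | h <;> rw [h, Pi.sub_apply, sub_eq_zero] at e2
        · exact e2
        · exact e2.symm
    suffices h : χ = η ∨ χ = η' ∨ χ' = η ∨ χ' = η' by
      obtain ⟨a1, a2⟩ := key x hx
      obtain ⟨b1, b2⟩ := key y hy
      rcases h with rfl | rfl | rfl | rfl
      · exact ⟨rfl, rfl⟩
      · exact ⟨a2.symm, b2.symm⟩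
      · exact ⟨a1, b1⟩
      · exact ⟨a1.trans a2.symm, b1.trans b2.symm⟩
    by_contra hcon
    simp only [not_or] at hcon
    obtain ⟨c1, c2, c3, c4⟩ := hcon
    apply hne
    rcases hχe with h | h <;> rcases hηe with h' | h' <;>
      simp [h, h', Char.classInner_sub_left, Char.classInner_sub_right, Char.classInner_irr, c1, c2,
        c3, c4]
  -- a character separating the two classes
  obtain ⟨χ, hχxy, hχX⟩ : ∃ χ : Cfsg.IrrCharacter G, χ.1 x ≠ χ.1 y ∧ ¬ X χ := by
    by_contra h
    push Not at h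
    apply hxy
    rw [Char.isConj_iff_forall_irr]
    intro χ
    by_contra hne
    have hχX := h χ hne
    have hne1 : ∀ g : G, (∀ c : Ω, g • c ≠ c) → g ≠ 1 := fun g hg e => hg a (by rw [e, one_smul])
    have hsum : ∑ η : Cfsg.IrrCharacter G, η.1 1 * (η.1 x - η.1 y) = 0 := by
      simp only [mul_sub, sum_sub_distrib]
      rw [Char.sum_irr_degree_mul, Char.sum_irr_degree_mul, if_neg (hne1 x hx), if_neg (hne1 y hy),
        sub_self]
    have hterm : ∀ η : Cfsg.IrrCharacter G, η.1 1 * (η.1 x - η.1 y) =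
        ((if X η then Char.degree η else 0 : ℕ) : ℂ) * (χ.1 x - χ.1 y) := by
      intro η
      by_cases hη : X η
      · obtain ⟨e1, e2⟩ := hcommon η χ hη hχX
        rw [if_pos hη, e1, e2, Char.apply_one_eq_degree]
      · have : η.1 x = η.1 y := by_contra fun hh => hη (h η hh)
        rw [if_neg hη, this, sub_self, Nat.cast_zero, mul_zero, zero_mul]
    rw [sum_congr rfl fun η _ => hterm η, ← sum_mul, ← Nat.cast_sum, mul_eq_zero,
      Nat.cast_eq_zero] at hsum
    rcases hsum with h0 | h0
    · have := (sum_eq_zero_iff.1 h0) χ (mem_univ _)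
      rw [if_pos hχX] at this
      exact (Char.degree_pos χ).ne' this
    · exact hne (sub_eq_zero.1 h0)
  have hm0 : mult χ one = 0 := by
    by_contra h
    exact hχxy (eq_of_trivial_constituent hZ hperf hab hodd hHa hHcard hHfix χ h hx hy)
  have hmconst : ∀ φ, φ ≠ one → mult χ φ = mult χ φ₀ := by
    intro φ h1
    by_cases ho : ∀ s, cj s φ₀ ≠ φ
    · have h := hDχ χ φ
      rw [← Char.conj_classInner, show Cfsg.classInner (D φ) χ.1 = 0 from
        by_contra fun h' => hχX ⟨φ, h1, ho, h'⟩, map_zero] at h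
      exact (sub_eq_zero.1 h.symm).symm
    · push Not at ho
      obtain ⟨s, rfl⟩ := ho
      exact hmcj χ s φ₀
  obtain ⟨m, hm⟩ := Char.IsCharacter.exists_nat_classInner
    (Char.IsCharacter.restrict (Char.irr_isCharacter χ) H) (Char.irr_isCharacter φ₀)
  have hcardIrr : Fintype.card (Cfsg.IrrCharacter H) = Nat.card H := by
    rw [← Char.sum_degree_sq (G := H), ← card_univ, card_eq_sum_ones]
    refine sum_congr rfl fun φ _ => ?_
    have : Char.degree φ = 1 := by
      have h := Char.apply_one_eq_degree φ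
      rw [Char.apply_one_of_comm hcc] at h
      exact_mod_cast h.symm
    rw [this, one_pow]
  have hdeg : χ.1 1 = ((m * (Nat.card H - 1) : ℕ) : ℂ) := by
    have hcl : Cfsg.IsClassFunction H (fun u : H => χ.1 (u : G)) :=
      Char.IsCharacter.isClassFunction (Char.IsCharacter.restrict (Char.irr_isCharacter χ) H)
    have h := congrFun (Char.eq_sum_classInner_smul hcl) 1
    simp only [OneMemClass.coe_one, Finset.sum_apply, Pi.smul_apply, smul_eq_mul,
      Char.apply_one_of_comm hcc, mul_one] at h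
    rw [h, ← add_sum_erase _ _ (mem_univ one),
      show Cfsg.classInner (fun u : H => χ.1 (u : G)) one.1 = 0 from hm0, zero_add,
      sum_congr rfl (g := fun _ => (m : ℂ)) (fun φ hφ => (hmconst φ (ne_of_mem_erase hφ)).trans hm),
      sum_const, card_erase_of_mem (mem_univ one), card_univ, hcardIrr, nsmul_eq_mul,
      ← Nat.cast_mul, mul_comm]
  obtain ⟨n, ρ, hρ, hρχ⟩ := χ.2
  have hdvd : m * (Nat.card H - 1) ∣ Nat.card G := by
    haveI := hρ
    have e : m * (Nat.card H - 1) = Module.finrank ℂ (Fin n → ℂ) := by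
      have : ((m * (Nat.card H - 1) : ℕ) : ℂ) = (Module.finrank ℂ (Fin n → ℂ) : ℂ) := by
        rw [← hdeg, ← hρχ, ρ.char_one]
      exact_mod_cast this
    rw [e]
    exact CharInt.finrank_dvd_natCard ρ
  have h1 : Nat.card H - 1 ∣ Nat.card G := (dvd_mul_left _ m).trans hdvd
  rw [card_group hZ hab] at h1
  obtain ⟨k, hk⟩ : ∃ k, Fintype.card Ω = k + 2 := ⟨Fintype.card Ω - 2, by omega⟩
  rw [hk, show Nat.card H - 1 = k by omega, show k + 2 - 1 = k + 1 by omega] at h1
  rw [hk, Nat.add_sub_cancel]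
  rw [show (k + 2) * ((k + 1) * Nat.card (twoStab G a b)) =
      k * ((k + 3) * Nat.card (twoStab G a b)) + 2 * Nat.card (twoStab G a b) by ring] at h1
  exact (Nat.dvd_add_right (dvd_mul_right k _)).1 h1

end Cfsg.Agent.ZassenhausOdd
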