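import Mathlib
import Cfsg.Agent.Lib.ZassenhausOdd.Abelian
import Cfsg.Agent.Lib.Perm.ZassenhausNormal
import Cfsg.Agent.Lib.Perm.ZassenhausEven

/-!
# Zassenhaus groups with abelian kernel and two-point stabilisers of odd order are perfect

By induction on the order: the derived subgroup is again a Zassenhaus group containing the kernel,
so `|Ω| - 2` divides twice the order of its two-point stabilisers, which is too small unless it is
the whole group.
-/

set_option autoImplicit false
set_option linter.style.haveILetI false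

namespace Cfsg.Agent.ZassenhausOdd

open MulAction Finset
open scoped commutatorElement

/-- A Zassenhaus group is not commutative. -/
theorem commutator_ne_bot {G Ω : Type*} [Group G] [MulAction G Ω]
    (hZ : Cfsg.IsZassenhausGroup G Ω) : commutator G ≠ ⊥ := by
  intro h
  haveI := hZ.1
  haveI := hZ.2.1
  haveI : IsPretransitive G Ω := isPretransitive_of_is_two_pretransitive
  have hcomm : ∀ x y : G, x * y = y * x := fun x y => by
    have : ⁅x, y⁆ ∈ commutator G := Subgroup.commutator_mem_commutator trivial trivial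
    rw [h, Subgroup.mem_bot] at this
    exact commutatorElement_eq_one_iff_mul_comm.1 this
  obtain ⟨g, hg, a, -, -, hga, -⟩ := hZ.2.2.2.1
  refine hg (FaithfulSMul.eq_of_smul_eq_smul (α := Ω) fun x => ?_)
  obtain ⟨k, rfl⟩ := exists_smul_eq G a x
  rw [one_smul, ← mul_smul, hcomm, mul_smul, hga]

/-- Every non-trivial normal subgroup contains the kernel of a point stabiliser. -/
theorem kernel_le_normal {G Ω : Type*} [Group G] [Finite G] [MulAction G Ω] [Fintype Ω]
    (hZ : Cfsg.IsZassenhausGroup G Ω) (N : Subgroup G) [N.Normal] (hN : N ≠ ⊥) {p : Ω} {s : G}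
    (hsp : s • p = p) (hs : ∀ y : Ω, s • y = y → y = p) : s ∈ N := by
  classical
  letI := Fintype.ofFinite G
  have hZN := Perm.Zass.normal_isZassenhausGroup hZ N hN
  obtain ⟨q, hq, -⟩ := Perm.Zass.exists_third hZ p p
  have h1 := card_fix_only hZ (a := p) (b := q) hq.symm
  have h2 := card_fix_only hZN (a := p) (b := q) hq.symm
  have h3 : (univ.filter fun g : N => g • p = p ∧ ∀ c : Ω, g • c = c → c = p).map
      (Function.Embedding.subtype _) =
      univ.filter fun g : G => g • p = p ∧ ∀ c : Ω, g • c = c → c = p := by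
    refine eq_of_subset_of_card_le (fun y hy => ?_) (by rw [card_map, h1]; exact h2.ge)
    simp only [Finset.mem_map, mem_filter, mem_univ, true_and] at hy ⊢
    obtain ⟨z, hz, rfl⟩ := hy
    exact hz
  have hs' : s ∈ univ.filter fun g : G => g • p = p ∧ ∀ c : Ω, g • c = c → c = p := by
    simp only [mem_filter, mem_univ, true_and]; exact ⟨hsp, hs⟩
  rw [← h3, Finset.mem_map] at hs'
  obtain ⟨z, -, hz⟩ := hs'
  rw [← hz]; exact z.2

/-- The two-point stabiliser of a subgroup, in the ambient group. -/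
theorem card_twoStab_subgroup {G Ω : Type*} [Group G] [MulAction G Ω] (N : Subgroup G) (a b : Ω) :
    Nat.card (twoStab N a b) = Nat.card ((N ⊓ twoStab G a b : Subgroup G)) :=
  Nat.card_congr
    { toFun := fun x => ⟨((x : N) : G), (x : N).2, x.2⟩
      invFun := fun x => ⟨⟨x.1, x.2.1⟩, x.2.2⟩
      left_inv := fun _ => rfl
      right_inv := fun _ => rfl }

universe u v

private theorem main_aux (n : ℕ) : ∀ {G : Type u} {Ω : Type v} [Group G] [Fintype G] [MulAction G Ω]
    [Fintype Ω], Nat.card G = n → Cfsg.IsZassenhausGroup G Ω → ∀ {a b : Ω}, a ≠ b →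
    Odd (Nat.card (twoStab G a b)) → ∀ {H : Subgroup G}, H ≤ stabilizer G a →
    Nat.card H + 1 = Fintype.card Ω → (∀ u ∈ H, u ≠ 1 → ∀ c : Ω, u • c = c → c = a) →
    (∀ u ∈ H, ∀ v ∈ H, u * v = v * u) →
    commutator G = ⊤ ∧ Fintype.card Ω - 2 ∣ 2 * Nat.card (twoStab G a b) := by
  induction n using Nat.strongRecOn with
  | _ n ih =>
  intro G Ω _ _ _ _ hn hZ a b hab hodd H hHa hHcard hHfix hHc
  classical
  by_cases hperf : commutator G = ⊤
  · exact ⟨hperf, dvd_two_mul_of_abelian_of_perfect hZ hperf hab hodd hHa hHcard hHfix hHc⟩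
  exfalso
  set N := commutator G with hN
  have hNb : N ≠ ⊥ := commutator_ne_bot hZ
  have hZN := Perm.Zass.normal_isZassenhausGroup hZ N hNb
  have hHN : H ≤ N := fun u hu => by
    rcases eq_or_ne u 1 with rfl | hu1
    · exact N.one_mem
    · exact kernel_le_normal hZ N hNb (hHa hu) (hHfix u hu hu1)
  letI : Fintype N := Fintype.ofFinite N
  have hlt : Nat.card N < n := by
    rw [← hn]
    refine lt_of_le_of_ne (Subgroup.card_le_card_group N) fun h => hperf ?_
    exact Subgroup.eq_top_of_card_eq N h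
  have hdvd : Nat.card (twoStab N a b) ∣ Nat.card (twoStab G a b) := by
    rw [card_twoStab_subgroup]; exact Subgroup.card_dvd_of_le inf_le_right
  have hoddN : Odd (Nat.card (twoStab N a b)) := Odd.of_dvd_nat hodd hdvd
  obtain ⟨-, hd⟩ := ih _ hlt rfl hZN hab hoddN (H := H.subgroupOf N) (fun u hu => hHa hu)
    (by rw [Nat.card_congr (Subgroup.subgroupOfEquivOfLe hHN).toEquiv, hHcard])
    (fun u hu hu1 => hHfix u hu fun e => hu1 (Subtype.ext e))
    (fun u hu v hv => Subtype.ext (hHc u hu v hv))
  have hle := Perm.Zass.three_le hZ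
  have hpos : 0 < Nat.card (twoStab N a b) := Nat.card_pos
  have h1 : Fintype.card Ω - 2 ≤ 2 * Nat.card (twoStab N a b) := Nat.le_of_dvd (by omega) hd
  have h2 : Nat.card (twoStab G a b) ≤ Fintype.card Ω - 2 :=
    Nat.le_of_dvd (by omega) (Perm.ZassEven.card_stab_dvd hZ hab)
  obtain ⟨k, hk⟩ := hdvd
  have hk1 : k ≠ 1 := by
    intro e
    rw [e, mul_one] at hk
    have c1 := card_group hZ hab
    have c2 := card_group hZN hab
    rw [hk] at c1
    omega
  have hk0 : k ≠ 0 := by
    intro e
    rw [e, mul_zero] at hk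
    exact Nat.card_pos.ne' hk
  have hk2 : k ≠ 2 := by
    intro e
    rw [e] at hk
    exact Nat.not_even_iff_odd.2 hodd ⟨Nat.card (twoStab N a b), by rw [hk]; ring⟩
  have h3 := Nat.mul_le_mul_left (Nat.card (twoStab N a b)) (show 3 ≤ k by omega)
  omega

variable {G Ω : Type*} [Group G] [Fintype G] [MulAction G Ω] [Fintype Ω]
variable (hZ : Cfsg.IsZassenhausGroup G Ω) {a b : Ω} (hab : a ≠ b)
  (hodd : Odd (Nat.card (twoStab G a b))) {H : Subgroup G} (hHa : H ≤ stabilizer G a)
  (hHcard : Nat.card H + 1 = Fintype.card Ω)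
  (hHfix : ∀ u ∈ H, u ≠ 1 → ∀ c : Ω, u • c = c → c = a)
  (hHc : ∀ u ∈ H, ∀ v ∈ H, u * v = v * u)
include hZ hab hodd hHa hHcard hHfix hHc

/-- Abelian kernel and two-point stabilisers of odd order: the group is perfect. -/
theorem perfect_of_abelian : commutator G = ⊤ :=
  (main_aux _ rfl hZ hab hodd hHa hHcard hHfix hHc).1

/-- Abelian kernel: `|Ω| - 2` divides twice the order of a two-point stabiliser. -/
theorem dvd_two_mul_of_abelian : Fintype.card Ω - 2 ∣ 2 * Nat.card (twoStab G a b) :=
  (main_aux _ rfl hZ hab hodd hHa hHcard hHfix hHc).2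

end Cfsg.Agent.ZassenhausOdd
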